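import Mathlib
import Cfsg.Agent.Lib.Maximal.SpFull

/-!
Elements of the unipotent radical of a point stabiliser in a symplectic group in characteristic two.
-/

set_option autoImplicit false
set_option linter.unusedSectionVars false

namespace CfsgLib.Maximal.Sp4Even

open scoped Matrix

variable {m : ℕ} {F : Type*} [Field F] [CharP F 2]

local notation "sf" => Cfsg.sympForm m F
local notation "VV" => (Fin m ⊕ Fin m → F)
local notation "GG" => Matrix.GeneralLinearGroup (Fin m ⊕ Fin m) F

lemma sf_symm (v w : VV) : sf v w = sf w v := by rw [sf_skew, CharTwo.neg_eq]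

lemma add_self_vec (v : VV) : v + v = 0 := funext fun i => CharTwo.add_self_eq_zero _

/-- For `w ⟂ b` the map `x ↦ x + α f(x,b) b + f(x,b) w + f(x,w) b`. -/
def rad (α : F) (w b : VV) : GG := stv (α + 1) b * stv 1 (w + b) * stv 1 w

lemma rad_mem_spGL (α : F) (w b : VV) : rad α w b ∈ Cfsg.spGL m F :=
  mul_mem (mul_mem (stv_mem_spGL _ _) (stv_mem_spGL _ _)) (stv_mem_spGL _ _)

lemma rad_mulVec (α : F) {w b : VV} (h : sf w b = 0) (x : VV) :
    (rad α w b : Matrix _ _ F) *ᵥ x = x + (α * sf x b) • b + sf x b • w + sf x w • b := by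
  have h' : sf b w = 0 := by rw [sf_symm, h]
  have h2 : (2 : F) = 0 := CharTwo.two_eq_zero
  funext i
  simp only [rad, Units.val_mul, ← Matrix.mulVec_mulVec, stv_mulVec, sf_add_left, sf_add_right, sf_smul_left,
    sf_alt, h, h', Pi.add_apply, Pi.smul_apply, smul_eq_mul]
  linear_combination (sf x b * b i + sf x w * w i) * h2

lemma rad_zero_left (α : F) (b : VV) : rad α 0 b = stv α b :=
  Units.ext (CfsgLib.Geometry.matrix_eq_of_mulVec fun x => by
    rw [rad_mulVec α (sf_zero_left b), stv_mulVec, sf_zero_right, smul_zero, zero_smul, add_zero, add_zero])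

lemma rad_mul (α β : F) {w w' b : VV} (h : sf w b = 0) (h' : sf w' b = 0) :
    rad α w b * rad β w' b = rad (α + β + sf w' w) (w + w') b := by
  refine Units.ext (CfsgLib.Geometry.matrix_eq_of_mulVec fun x => ?_)
  have hb : sf b w = 0 := by rw [sf_symm, h]
  have hadd : sf (w + w') b = 0 := by rw [sf_add_left, h, h', add_zero]
  funext i
  simp only [Units.val_mul, ← Matrix.mulVec_mulVec, rad_mulVec _ h, rad_mulVec _ h', rad_mulVec _ hadd,
    sf_add_left, sf_add_right, sf_smul_left, sf_alt, hb, h', Pi.add_apply, Pi.smul_apply, smul_eq_mul]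
  ring

lemma rad_mul_self (α : F) {w b : VV} (h : sf w b = 0) : rad α w b * rad α w b = 1 := by
  rw [rad_mul α α h h, sf_alt, CharTwo.add_self_eq_zero, add_zero, add_self_vec, rad_zero_left]
  exact Units.ext (CfsgLib.Geometry.matrix_eq_of_mulVec fun x => by simp [stv_mulVec])

lemma rad_conj {g : GG} (hg : g ∈ Cfsg.spGL m F) (α : F) (w b : VV) :
    g * rad α w b * g⁻¹ = rad α ((g : Matrix _ _ F) *ᵥ w) ((g : Matrix _ _ F) *ᵥ b) := by
  simp only [rad, ← Matrix.mulVec_add, ← stv_conj hg]
  group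

lemma rad_smul_right (α c : F) {w b : VV} (h : sf w b = 0) :
    rad α w (c • b) = rad (α * c * c) (c • w) b := by
  refine Units.ext (CfsgLib.Geometry.matrix_eq_of_mulVec fun x => ?_)
  funext i
  simp only [rad_mulVec _ (show sf w (c • b) = 0 by rw [sf_smul_right, h, mul_zero]),
    rad_mulVec _ (show sf (c • w) b = 0 by rw [sf_smul_left, h, mul_zero]), sf_smul_right,
    Pi.add_apply, Pi.smul_apply, smul_eq_mul]
  ring

lemma rad_symm {w b : VV} (h : sf w b = 0) : rad 0 w b = rad 0 b w := by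
  refine Units.ext (CfsgLib.Geometry.matrix_eq_of_mulVec fun x => ?_)
  funext i
  simp only [rad_mulVec _ h, rad_mulVec _ (show sf b w = 0 by rw [sf_symm, h]), Pi.add_apply, Pi.smul_apply,
    smul_eq_mul]
  ring

lemma rad_add_smul (α t : F) {w b : VV} (h : sf w b = 0) : rad α (w + t • b) b = rad α w b := by
  refine Units.ext (CfsgLib.Geometry.matrix_eq_of_mulVec fun x => ?_)
  have h2 : (2 : F) = 0 := CharTwo.two_eq_zero
  funext i
  simp only [rad_mulVec _ h, rad_mulVec _ (show sf (w + t • b) b = 0 by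
      rw [sf_add_left, sf_smul_left, h, sf_alt, mul_zero, add_zero]), sf_add_right, sf_smul_right,
    Pi.add_apply, Pi.smul_apply, smul_eq_mul]
  linear_combination (t * sf x b * b i) * h2

lemma rad_split (α : F) {w b : VV} (h : sf w b = 0) : rad α w b = stv α b * rad 0 w b := by
  rw [← rad_zero_left α b, rad_mul α 0 (sf_zero_left b) h, sf_zero_right, add_zero, add_zero, zero_add]

lemma stv_mul_stv_self (k : F) (v : VV) : stv k v * stv k v = 1 := by
  rw [← rad_zero_left]; exact rad_mul_self k (sf_zero_left v)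

lemma stv_mul (k l : F) (v : VV) : stv k v * stv l v = stv (k + l) v := by
  rw [← rad_zero_left, ← rad_zero_left, rad_mul k l (sf_zero_left v) (sf_zero_left v), sf_alt, add_zero, add_zero,
    rad_zero_left]

/-- Two transvections with orthogonal centres multiply into a radical element. -/
lemma stv_add_mul {v u : VV} (h : sf v u = 0) : stv 1 (v + u) * stv 1 v = rad 1 v u := by
  refine Units.ext (CfsgLib.Geometry.matrix_eq_of_mulVec fun x => ?_)
  have h' : sf u v = 0 := by rw [sf_symm, h]
  have h2 : (2 : F) = 0 := CharTwo.two_eq_zero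
  funext i
  simp only [Units.val_mul, ← Matrix.mulVec_mulVec, stv_mulVec, rad_mulVec _ h, sf_add_left, sf_add_right,
    sf_smul_left, sf_alt, h, h', Pi.add_apply, Pi.smul_apply, smul_eq_mul]
  linear_combination (sf x v * v i) * h2

lemma rad_mem_of_stv {M : Subgroup GG} {v u : VV} (h : sf v u = 0) (hv : stv 1 v ∈ M)
    (hvu : stv 1 (v + u) ∈ M) : rad 1 v u ∈ M := by
  rw [← stv_add_mul h]; exact mul_mem hvu hv

lemma rad_map {M : Subgroup GG} (hMS : M ≤ Cfsg.spGL m F) {g : GG} (hg : g ∈ M) {α : F} {w b : VV}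
    (h : rad α w b ∈ M) : rad α ((g : Matrix _ _ F) *ᵥ w) ((g : Matrix _ _ F) *ᵥ b) ∈ M := by
  rw [← rad_conj (hMS hg)]; exact mul_mem (mul_mem hg h) (inv_mem hg)

lemma stv_map {M : Subgroup GG} (hMS : M ≤ Cfsg.spGL m F) {g : GG} (hg : g ∈ M) {k : F} {v : VV}
    (h : stv k v ∈ M) : stv k ((g : Matrix _ _ F) *ᵥ v) ∈ M := by
  rw [← stv_conj (hMS hg)]; exact mul_mem (mul_mem hg h) (inv_mem hg)

end CfsgLib.Maximal.Sp4Even
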