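import Mathlib
import Cfsg.Agent.Lib.Maximal.Sp4Even.Radical
import Cfsg.Agent.Lib.Geometry.MatrixEquiv
import Cfsg.Prelude.Def_GeometricClasses

/-!
The normaliser of a quadratic extension field in the four-dimensional symplectic group in characteristic two.
-/

set_option autoImplicit false
set_option linter.unusedSectionVars false

namespace CfsgLib.Maximal.Sp4Even

open scoped Matrix

variable {F : Type*} [Field F] [CharP F 2]

local notation "sf" => Cfsg.sympForm 2 F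
local notation "B" => CfsgLib.Geometry.sympBilin 2 F
local notation "VV" => (Fin 2 ⊕ Fin 2 → F)
local notation "MM" => Matrix (Fin 2 ⊕ Fin 2) (Fin 2 ⊕ Fin 2) F
local notation "GG" => Matrix.GeneralLinearGroup (Fin 2 ⊕ Fin 2) F

/-- A generator of the extension field. -/
structure ExtCtx (K : Subalgebra F MM) (J : MM) (p δ : F) : Prop where
  mem : J ∈ K
  sq : ∀ v : VV, J *ᵥ (J *ᵥ v) = p • J *ᵥ v + δ • v
  p0 : p ≠ 0
  adj : ∀ x y : VV, sf (J *ᵥ x) y = sf x (J *ᵥ y)
  orth : ∀ v : VV, sf (J *ᵥ v) v = 0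
  eigen : ∀ (c : F) (v : VV), J *ᵥ v = c • v → v = 0
  gen : ∀ k ∈ K, ∃ c d : F, k = c • (1 : MM) + d • J

variable {K : Subalgebra F (Matrix (Fin 2 ⊕ Fin 2) (Fin 2 ⊕ Fin 2) F)} {J : Matrix (Fin 2 ⊕ Fin 2) (Fin 2 ⊕ Fin 2) F} {p δ : F}

/-- The long root elements of the extension field group. -/
def wel (J : MM) (p s : F) (a : VV) : GG := rad (s * p) (s • J *ᵥ a) a

lemma ExtCtx.wel_mulVec (h : ExtCtx K J p δ) (s : F) (a x : VV) :
    (wel J p s a : MM) *ᵥ x =
      x + (s * p * sf x a) • a + (s * sf x a) • J *ᵥ a + (s * sf x (J *ᵥ a)) • a := by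
  rw [wel, rad_mulVec _ (by rw [sf_smul_left, h.orth, mul_zero]), sf_smul_right, smul_smul, mul_comm (sf x a) s]

lemma ExtCtx.mem_of_commute (h : ExtCtx K J p δ) {g : GG} (hg : g ∈ Cfsg.spGL 2 F)
    (hc : (g : MM) * J = J * (g : MM)) : g ∈ Cfsg.Geo.subalgebraNormalizer K ⊓ Cfsg.spGL 2 F := by
  have hK : ∀ k ∈ K, (g : MM) * k * ((g⁻¹ : GG) : MM) = k := fun k hk => by
    obtain ⟨c, d, rfl⟩ := h.gen k hk
    rw [mul_add, mul_smul_comm, mul_smul_comm, hc, mul_one, add_mul, smul_mul_assoc, smul_mul_assoc, mul_assoc,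
      ← Units.val_mul, mul_inv_cancel, Units.val_one, mul_one]
  refine ⟨fun k => ⟨fun hk => by rwa [hK k hk], fun hk => ?_⟩, hg⟩
  have e := hK _ hk
  have : (g : MM) * k * ((g⁻¹ : GG) : MM) = k := by
    have e2 := congrArg (fun A => ((g⁻¹ : GG) : MM) * A * (g : MM)) e
    simpa [mul_assoc, ← Units.val_mul] using e2
  rwa [this] at hk

lemma ExtCtx.wel_mem (h : ExtCtx K J p δ) (s : F) (a : VV) :
    wel J p s a ∈ Cfsg.Geo.subalgebraNormalizer K ⊓ Cfsg.spGL 2 F := by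
  refine h.mem_of_commute (rad_mem_spGL _ _ _) (CfsgLib.Geometry.matrix_eq_of_mulVec fun x => ?_)
  have h2 : (2 : F) = 0 := CharTwo.two_eq_zero
  rw [← Matrix.mulVec_mulVec, ← Matrix.mulVec_mulVec, h.wel_mulVec, h.wel_mulVec]
  simp only [Matrix.mulVec_add, Matrix.mulVec_smul, h.sq, h.adj, sf_add_right, sf_smul_right]
  funext i
  simp only [Pi.add_apply, Pi.smul_apply, smul_eq_mul]
  linear_combination (s * p * sf x (J *ᵥ a) * a i - s * p * sf x a * (J *ᵥ a) i) * h2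

/-- Membership in the line over the extension field. -/
def kline (J : MM) (v : VV) : Submodule F VV := Submodule.span F {v, J *ᵥ v}

lemma mem_kline {v x : VV} : x ∈ kline J v ↔ ∃ c d : F, c • v + d • J *ᵥ v = x := Submodule.mem_span_pair

lemma ExtCtx.kline_stable (h : ExtCtx K J p δ) {v x : VV} (hx : x ∈ kline J v) : J *ᵥ x ∈ kline J v := by
  obtain ⟨c, d, rfl⟩ := mem_kline.1 hx
  refine mem_kline.2 ⟨d * δ, c + d * p, ?_⟩
  rw [Matrix.mulVec_add, Matrix.mulVec_smul, Matrix.mulVec_smul, h.sq]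
  module

lemma ExtCtx.indep (h : ExtCtx K J p δ) {v : VV} (hv : v ≠ 0) {c d : F} (he : c • v + d • J *ᵥ v = 0) :
    c = 0 ∧ d = 0 := by
  rcases eq_or_ne d 0 with rfl | hd
  · rw [zero_smul, add_zero, smul_eq_zero] at he
    exact ⟨he.resolve_right hv, rfl⟩
  · exfalso
    refine hv (h.eigen (-c / d) v ?_)
    have e := congrArg (fun w => d⁻¹ • w) (eq_neg_of_add_eq_zero_right he)
    simp only [inv_smul_smul₀ hd] at e
    rw [e, smul_neg, smul_smul, ← neg_smul]; congr 1; ring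

lemma ExtCtx.mem_kline_of_comb (h : ExtCtx K J p δ) {v w : VV} {c d : F}
    (hmem : c • w + d • J *ᵥ w ∈ kline J v) (hne : ¬ (c = 0 ∧ d = 0)) : w ∈ kline J v := by
  rcases eq_or_ne w 0 with rfl | hw
  · exact Submodule.zero_mem _
  have h2 : (2 : F) = 0 := CharTwo.two_eq_zero
  set z := c • w + d • J *ᵥ w with hz
  have hz0 : z ≠ 0 := fun h0 => hne (h.indep hw h0)
  have e : (c + d * p) • z + d • J *ᵥ z = (c * c + c * d * p + d * d * δ) • w := by
    rw [hz, Matrix.mulVec_add, Matrix.mulVec_smul, Matrix.mulVec_smul, h.sq]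
    funext i
    simp only [Pi.add_apply, Pi.smul_apply, smul_eq_mul]
    linear_combination ((c * d + d * d * p) * (J *ᵥ w) i) * h2
  have hN : c * c + c * d * p + d * d * δ ≠ 0 := fun h0 => by
    rw [h0, zero_smul] at e
    obtain ⟨h1, h3⟩ := h.indep hz0 e
    rw [h3, zero_mul, add_zero] at h1
    exact hne ⟨h1, h3⟩
  have := (kline J v).smul_mem (c * c + c * d * p + d * d * δ)⁻¹
    ((kline J v).add_mem ((kline J v).smul_mem (c + d * p) hmem)
      ((kline J v).smul_mem d (h.kline_stable hmem)))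
  rwa [e, inv_smul_smul₀ hN] at this

lemma ExtCtx.mem_kline_symm (h : ExtCtx K J p δ) {v w : VV} (hw0 : w ≠ 0) (hw : w ∈ kline J v) :
    v ∈ kline J w := by
  obtain ⟨c, d, hcd⟩ := mem_kline.1 hw
  refine h.mem_kline_of_comb (c := c) (d := d) ?_ fun ⟨hc, hd⟩ => hw0 ?_
  · rw [hcd]; exact Submodule.subset_span (by simp)
  · rw [← hcd, hc, hd, zero_smul, zero_smul, add_zero]

lemma orth_pair {a c x : VV} (hx : ∀ y, sf a y = 0 → sf c y = 0 → sf y x = 0) :
    x ∈ Submodule.span F ({a, c} : Set VV) := by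
  rw [← LinearMap.BilinForm.orthogonal_orthogonal (CfsgLib.Geometry.sympBilin_nondegenerate 2 F)
    ((CfsgLib.Geometry.sympBilin_isAlt 2 F).isRefl) (Submodule.span F ({a, c} : Set VV))]
  exact fun y hy => hx y (hy a (Submodule.subset_span (by simp))) (hy c (Submodule.subset_span (by simp)))

lemma exists_not_mem_kline (v : VV) : ∃ u, u ∉ kline J v := by
  by_contra hcon
  push Not at hcon
  have htop : kline J v = ⊤ := Submodule.eq_top_iff'.2 hcon
  classical
  have h1 : Module.finrank F (kline J v) ≤ 2 := by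
    have := finrank_span_le_card (R := F) ({v, J *ᵥ v} : Set VV)
    refine this.trans ?_
    simpa using Finset.card_le_two
  rw [htop, finrank_top] at h1
  simp at h1

variable {M : Subgroup (Matrix.GeneralLinearGroup (Fin 2 ⊕ Fin 2) F)}

/-- An element sending some extension line off the spread yields a transvection. -/
lemma ExtCtx.transv_of_tilt [Fintype F] (h : ExtCtx K J p δ) (h3 : 3 ≤ Fintype.card F)
    (hHM : Cfsg.Geo.subalgebraNormalizer K ⊓ Cfsg.spGL 2 F ≤ M) (hMS : M ≤ Cfsg.spGL 2 F)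
    {g : GG} (hg : g ∈ M) {a₀ : VV} (ht : sf ((g : MM) *ᵥ (J *ᵥ a₀)) (J *ᵥ ((g : MM) *ᵥ a₀)) ≠ 0) :
    ∃ k a, k ≠ 0 ∧ a ≠ 0 ∧ stv k a ∈ M := by
  classical
  have hiso := (mem_spGL_iff g).1 (hMS hg)
  set a := (g : MM) *ᵥ a₀ with ha
  set b := (g : MM) *ᵥ (J *ᵥ a₀) with hb
  set κ := sf b (J *ᵥ a) with hκ
  have hba : sf b a = 0 := by rw [hb, ha, hiso, h.orth]
  obtain ⟨y, hy⟩ : ∃ y, y ∉ ({0, p} : Finset F) := by
    by_contra hcon
    push Not at hcon
    have := Finset.card_le_card (fun x _ => hcon x : Finset.univ ⊆ ({0, p} : Finset F))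
    have := Finset.card_le_two (a := (0 : F)) (b := p)
    rw [Finset.card_univ] at *
    omega
  simp only [Finset.mem_insert, Finset.mem_singleton, not_or] at hy
  set σ := y / κ with hσ
  have hσκ : σ * κ = y := div_mul_cancel₀ _ ht
  have g0 : rad (σ * p) (σ • b) a ∈ M := by
    have := rad_map hMS hg (hHM (h.wel_mem σ a₀))
    rwa [Matrix.mulVec_smul] at this
  have hbs : sf (σ • b) a = 0 := by rw [sf_smul_left, hba, mul_zero]
  have e1 : (wel J p 1 (J *ᵥ a) : MM) *ᵥ a = a := by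
    rw [h.wel_mulVec, h.sq, sf_add_right, sf_smul_right, sf_smul_right, sf_symm a (J *ᵥ a), h.orth, sf_alt]
    simp
  have e2 : (wel J p 1 (J *ᵥ a) : MM) *ᵥ b = (b + (p * κ) • J *ᵥ a) + (κ * δ) • a := by
    rw [h.wel_mulVec, h.sq, sf_add_right, sf_smul_right, sf_smul_right, hba, ← hκ]
    funext i
    simp only [Pi.add_apply, Pi.smul_apply, smul_eq_mul]
    linear_combination (p * κ * (J *ᵥ a) i) * (CharTwo.two_eq_zero : (2 : F) = 0)
  have hJa : sf (J *ᵥ a) a = 0 := h.orth a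
  have g1 := rad_map hMS (hHM (h.wel_mem 1 (J *ᵥ a))) g0
  rw [Matrix.mulVec_smul, e1, e2, smul_add, smul_smul σ (κ * δ), rad_add_smul _ _ (by
    rw [sf_smul_left, sf_add_left, sf_smul_left, hba, hJa, mul_zero, add_zero, mul_zero])] at g1
  have g2 := mul_mem (mul_mem g0 g1) (hHM (h.wel_mem (σ * (p * κ)) a))
  rw [wel, rad_mul _ _ hbs (by rw [sf_smul_left, sf_add_left, sf_smul_left, hba, hJa, mul_zero, add_zero, mul_zero]),
    rad_mul _ _ (by simp only [sf_add_left, sf_smul_left, hba, hJa, mul_zero, add_zero])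
      (by rw [sf_smul_left, hJa, mul_zero])] at g2
  have hzero : σ • b + σ • (b + (p * κ) • J *ᵥ a) + (σ * (p * κ)) • J *ᵥ a = 0 := by
    funext i
    simp only [Pi.add_apply, Pi.smul_apply, smul_eq_mul, Pi.zero_apply]
    linear_combination (σ * b i + σ * p * κ * (J *ᵥ a) i) * (CharTwo.two_eq_zero : (2 : F) = 0)
  rw [hzero, rad_zero_left] at g2
  refine ⟨_, a, ?_, ?_, g2⟩
  · have hsf : sf (J *ᵥ a) b = κ := by rw [sf_symm, hκ]
    simp only [sf_add_left, sf_add_right, sf_smul_left, sf_smul_right, sf_alt, hsf, ← hκ]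
    intro h0
    have : σ * (p * κ) * (y + p) = 0 := by
      linear_combination h0 + σ * (p * κ) * hσκ.symm -
        (σ * p + σ * σ * p * κ * κ) * (CharTwo.two_eq_zero : (2 : F) = 0)
    refine absurd this (mul_ne_zero (mul_ne_zero (div_ne_zero hy.1 ht) (mul_ne_zero h.p0 ht)) fun h1 => hy.2 ?_)
    exact CharTwo.add_eq_zero.1 h1
  · intro h0
    exact ht (show sf b (J *ᵥ a) = 0 by rw [h0, Matrix.mulVec_zero, sf_zero_right])

/-- Without tilting, the group normalises the field. -/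
lemma ExtCtx.conj_mem (h : ExtCtx K J p δ) {g : GG} (hgS : g ∈ Cfsg.spGL 2 F)
    (hno : ∀ a, sf ((g : MM) *ᵥ (J *ᵥ a)) (J *ᵥ ((g : MM) *ᵥ a)) = 0) :
    ∀ k ∈ K, (g : MM) * k * ((g⁻¹ : GG) : MM) ∈ K := by
  classical
  set J' := (g : MM) * J * ((g⁻¹ : GG) : MM) with hJ'
  have hiso := (mem_spGL_iff g).1 hgS
  have hline : ∀ v, J' *ᵥ v ∈ kline J v := by
    intro v
    rcases eq_or_ne v 0 with rfl | hv
    · rw [Matrix.mulVec_zero]; exact Submodule.zero_mem _
    obtain ⟨a, rfl⟩ := mulVec_surj g v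
    have e : J' *ᵥ ((g : MM) *ᵥ a) = (g : MM) *ᵥ (J *ᵥ a) := by
      rw [hJ', Matrix.mulVec_mulVec, Matrix.mulVec_mulVec, mul_assoc, ← Units.val_mul, inv_mul_cancel,
        Units.val_one, mul_one]
    rw [e]
    set W := kline J ((g : MM) *ᵥ a) with hW
    have hts : W ≤ LinearMap.BilinForm.orthogonal B W := by
      intro x hx w hw
      obtain ⟨c, d, rfl⟩ := mem_kline.1 hx
      obtain ⟨c', d', rfl⟩ := mem_kline.1 hw
      show sf _ _ = 0
      simp only [sf_add_left, sf_add_right, sf_smul_left, sf_smul_right, sf_alt,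
        sf_symm _ (J *ᵥ ((g : MM) *ᵥ a)), h.orth, mul_zero, add_zero]
    have h2 : Module.finrank F W = 2 := by
      have hli : LinearIndependent F ![(g : MM) *ᵥ a, J *ᵥ ((g : MM) *ᵥ a)] :=
        LinearIndependent.pair_iff.2 fun c d => h.indep hv
      have := finrank_span_eq_card hli
      rw [Matrix.range_cons, Matrix.range_cons, Matrix.range_empty, Set.union_empty, Set.singleton_union] at this
      exact this.trans (by simp)
    have heq : W = LinearMap.BilinForm.orthogonal B W := by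
      refine Submodule.eq_of_le_of_finrank_le hts ?_
      rw [LinearMap.BilinForm.finrank_orthogonal (CfsgLib.Geometry.sympBilin_nondegenerate 2 F), h2]
      simp
    rw [heq]
    intro w hw
    obtain ⟨c, d, rfl⟩ := mem_kline.1 hw
    show sf _ _ = 0
    rw [sf_add_left, sf_smul_left, sf_smul_left, hiso, sf_symm a, h.orth, sf_symm, hno, mul_zero, mul_zero,
      add_zero]
  let v₀ : VV := Pi.single (Sum.inl 0) 1
  have hv₀ : v₀ ≠ 0 := by simp [v₀]
  obtain ⟨c, d, hcd⟩ := mem_kline.1 (hline v₀)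
  have hout : ∀ w, w ∉ kline J v₀ → J' *ᵥ w = c • w + d • J *ᵥ w := by
    intro w hw
    obtain ⟨cw, dw, hw'⟩ := mem_kline.1 (hline w)
    obtain ⟨cs, ds, hs⟩ := mem_kline.1 (hline (v₀ + w))
    rw [Matrix.mulVec_add, Matrix.mulVec_add, ← hcd, ← hw'] at hs
    have e : (cw - cs) • w + (dw - ds) • J *ᵥ w = (cs - c) • v₀ + (ds - d) • J *ᵥ v₀ := by
      linear_combination (norm := module) -hs
    have hcs : cw - cs = 0 ∧ dw - ds = 0 := by
      by_contra hne
      exact hw (h.mem_kline_of_comb (e ▸ mem_kline.2 ⟨_, _, rfl⟩) hne)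
    rw [hcs.1, hcs.2, zero_smul, zero_smul, add_zero] at e
    obtain ⟨h1, h2⟩ := h.indep hv₀ e.symm
    rw [← hw', sub_eq_zero.1 hcs.1, sub_eq_zero.1 hcs.2, sub_eq_zero.1 h1, sub_eq_zero.1 h2]
  obtain ⟨u, hu⟩ := exists_not_mem_kline (J := J) v₀
  have hJ : J' = c • (1 : MM) + d • J := CfsgLib.Geometry.matrix_eq_of_mulVec fun w => by
    rw [Matrix.add_mulVec, Matrix.smul_mulVec, Matrix.smul_mulVec, Matrix.one_mulVec]
    by_cases hw : w ∈ kline J v₀
    · have := hout (w + u) fun hm => hu ((Submodule.add_mem_iff_right _ hw).1 hm)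
      rw [Matrix.mulVec_add, Matrix.mulVec_add, hout u hu] at this
      linear_combination (norm := module) this
    · exact hout w hw
  intro k hk
  obtain ⟨c', d', rfl⟩ := h.gen k hk
  rw [mul_add, mul_smul_comm, mul_smul_comm, mul_one, add_mul, smul_mul_assoc, smul_mul_assoc, ← Units.val_mul,
    mul_inv_cancel, Units.val_one, ← hJ', hJ]
  exact K.add_mem (K.smul_mem K.one_mem _) (K.smul_mem (K.add_mem (K.smul_mem K.one_mem _) (K.smul_mem h.mem _)) _)

/-- Transitivity on non-zero vectors. -/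
lemma ExtCtx.spread (h : ExtCtx K J p δ) (hHM : Cfsg.Geo.subalgebraNormalizer K ⊓ Cfsg.spGL 2 F ≤ M)
    (hMS : M ≤ Cfsg.spGL 2 F) {k : F} {a : VV} (ha0 : a ≠ 0) (ha : stv k a ∈ M) (c : VV) : stv k c ∈ M := by
  rcases eq_or_ne c 0 with rfl | hc0
  · rw [stv_zero]; exact one_mem M
  have step : ∀ {a c : VV}, stv k a ∈ M → sf a c = 0 → sf a (J *ᵥ c) ≠ 0 → stv k c ∈ M := by
    intro a c ha h0 h1
    have := stv_map hMS (hHM (h.wel_mem (sf a (J *ᵥ c))⁻¹ (c + a))) ha
    rwa [h.wel_mulVec, sf_add_right, Matrix.mulVec_add, sf_add_right, sf_symm a (J *ᵥ a), h.orth, sf_alt, h0,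
      add_zero, add_zero, mul_zero, mul_zero, inv_mul_cancel₀ h1, zero_smul, zero_smul, one_smul, add_zero,
      add_zero, ← add_assoc, add_comm a c, add_assoc, add_self_vec, add_zero] at this
  have two : ∀ {a c : VV}, stv k a ∈ M → a ≠ 0 → c ≠ 0 → c ∉ kline J a → stv k c ∈ M := by
    intro a c ha ha0 hc0 hca
    have side : ∀ {a c : VV}, a ≠ 0 → c ∉ kline J a → ∃ y, sf a y = 0 ∧ sf c y = 0 ∧ sf y (J *ᵥ a) ≠ 0 := by
      intro a c ha0 hca
      by_contra hcon
      push Not at hcon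
      obtain ⟨α, β, hαβ⟩ := Submodule.mem_span_pair.1 (orth_pair hcon)
      rcases eq_or_ne β 0 with rfl | hβ
      · rw [zero_smul, add_zero] at hαβ
        exact ha0 (h.eigen α a hαβ.symm)
      · refine hca (((kline J a).smul_mem_iff hβ).1 ?_)
        rw [← add_sub_cancel_left (α • a) (β • c), hαβ]
        exact mem_kline.2 ⟨-α, 1, by module⟩
    obtain ⟨y₁, h1a, h1c, h1⟩ := side ha0 hca
    obtain ⟨y₂, h2c, h2a, h2⟩ := side hc0 fun hm => hca (h.mem_kline_symm ha0 hm)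
    obtain ⟨y, hya, hyc, hy1, hy2⟩ :
        ∃ y, sf a y = 0 ∧ sf c y = 0 ∧ sf y (J *ᵥ a) ≠ 0 ∧ sf y (J *ᵥ c) ≠ 0 := by
      by_cases e1 : sf y₁ (J *ᵥ c) = 0
      · by_cases e2 : sf y₂ (J *ᵥ a) = 0
        · exact ⟨y₁ + y₂, by rw [sf_add_right, h1a, h2a, add_zero], by rw [sf_add_right, h1c, h2c, add_zero],
            by rwa [sf_add_left, e2, add_zero], by rwa [sf_add_left, e1, zero_add]⟩
        · exact ⟨y₂, h2a, h2c, e2, h2⟩
      · exact ⟨y₁, h1a, h1c, h1, e1⟩
    refine step (step ha hya ?_) (by rw [sf_symm]; exact hyc) hy2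
    rwa [← h.adj, sf_symm]
  by_cases hca : c ∈ kline J a
  · obtain ⟨d, hd⟩ := exists_not_mem_kline (J := J) a
    have hd0 : d ≠ 0 := fun h0 => hd (h0 ▸ Submodule.zero_mem _)
    refine two (two ha ha0 hd0 hd) hd0 hc0 fun hcd => hd ?_
    have hdc := h.mem_kline_symm hc0 hcd
    have hle : kline J c ≤ kline J a := Submodule.span_le.2 (by
      rintro x (rfl | rfl)
      exacts [hca, h.kline_stable hca])
    exact hle hdc
  · exact two ha ha0 hc0 hca

lemma ExtCtx.proper (h : ExtCtx K J p δ) :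
    Cfsg.Geo.subalgebraNormalizer K ⊓ Cfsg.spGL 2 F < Cfsg.spGL 2 F := by
  refine lt_of_le_of_ne inf_le_right fun heq => ?_
  let v : VV := Pi.single (Sum.inl 0) 1
  have hv : v ≠ 0 := by simp [v]
  obtain ⟨x, hx⟩ := sf_exists v hv
  have hmem : stv 1 v ∈ Cfsg.Geo.subalgebraNormalizer K ⊓ Cfsg.spGL 2 F := by
    rw [heq]; exact stv_mem_spGL _ _
  obtain ⟨c, d, hcd⟩ := h.gen _ ((hmem.1 J).1 h.mem)
  have hinv : (stv 1 v : GG)⁻¹ = stv 1 v := inv_eq_of_mul_eq_one_right (stv_mul_stv_self 1 v)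
  rw [hinv] at hcd
  have happ := congrArg (fun A : MM => A *ᵥ v) hcd
  simp only [← Matrix.mulVec_mulVec, stv_mulVec, sf_alt, mul_zero, zero_smul, add_zero, h.orth,
    Matrix.add_mulVec, Matrix.smul_mulVec, Matrix.one_mulVec] at happ
  obtain ⟨hc, hd⟩ := h.indep hv (c := c) (d := d - 1) (by linear_combination (norm := module) -happ)
  rw [hc, sub_eq_zero.1 hd, zero_smul, zero_add, one_smul] at hcd
  have happ2 := congrArg (fun A : MM => A *ᵥ ((stv 1 v : MM) *ᵥ x)) hcd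
  simp only [Matrix.mulVec_mulVec] at happ2
  rw [mul_assoc, mul_assoc, ← Units.val_mul, stv_mul_stv_self, Units.val_one, mul_one] at happ2
  simp only [← Matrix.mulVec_mulVec, stv_mulVec, Matrix.mulVec_add, Matrix.mulVec_smul] at happ2
  rw [sf_symm x v, hx, mul_one, one_smul, one_mul] at happ2
  exact hv (h.eigen (sf (J *ᵥ x) v) v (by linear_combination (norm := module) -happ2))

lemma exists_extCtx [Fintype F] (hK : Cfsg.Geo.IsFieldSubalgebra 2 K)
    (hadj : Cfsg.Geo.IsSelfAdjointFor sf K) (horth : ∀ k ∈ K, ∀ v : VV, sf (k *ᵥ v) v = 0) :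
    ∃ J p δ, ExtCtx K J p δ := by
  classical
  obtain ⟨J, hJ, hJs⟩ : ∃ J ∈ K, ∀ c : F, J ≠ c • (1 : MM) := by
    by_contra hcon
    push Not at hcon
    have : K = ⊥ := eq_bot_iff.2 fun k hk => by
      obtain ⟨c, rfl⟩ := hcon k hk
      exact Algebra.mem_bot.2 ⟨c, Algebra.algebraMap_eq_smul_one c⟩
    have h2 := hK.finrank_eq
    rw [this, Subalgebra.finrank_bot] at h2
    omega
  have hli : LinearIndependent F ![(1 : MM), J] := by
    rw [LinearIndependent.pair_iff]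
    intro c d he
    rcases eq_or_ne d 0 with rfl | hd
    · rw [zero_smul, add_zero, smul_eq_zero] at he
      exact ⟨he.resolve_right one_ne_zero, rfl⟩
    · exfalso
      refine hJs (d⁻¹ * -c) ?_
      rw [mul_smul, neg_smul, ← eq_neg_of_add_eq_zero_right he, inv_smul_smul₀ hd]
  have hspan : Submodule.span F (Set.range ![(1 : MM), J]) = Subalgebra.toSubmodule K := by
    refine Submodule.eq_of_le_of_finrank_eq (Submodule.span_le.2 ?_) ?_
    · rintro _ ⟨i, rfl⟩
      fin_cases i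
      exacts [K.one_mem, hJ]
    · rw [finrank_span_eq_card hli, Subalgebra.finrank_toSubmodule, hK.finrank_eq]; simp
  have gen : ∀ k ∈ K, ∃ c d : F, k = c • (1 : MM) + d • J := fun k hk => by
    have hk' : k ∈ Submodule.span F (Set.range ![(1 : MM), J]) := hspan ▸ hk
    rw [Matrix.range_cons, Matrix.range_cons, Matrix.range_empty, Set.union_empty, Set.singleton_union] at hk'
    obtain ⟨c, d, e⟩ := Submodule.mem_span_pair.1 hk'
    exact ⟨c, d, e.symm⟩
  have unit : ∀ k ∈ K, k ≠ 0 → ∀ v : VV, k *ᵥ v = 0 → v = 0 := fun k hk hk0 v hv => by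
    obtain ⟨y, hy, hky⟩ := hK.inv k hk hk0
    rw [← Matrix.one_mulVec v, ← hky, hK.comm k hk y hy, ← Matrix.mulVec_mulVec, hv, Matrix.mulVec_zero]
  obtain ⟨δ, p, hsq⟩ := gen _ (K.mul_mem hJ hJ)
  refine ⟨J, p, δ, hJ, fun v => ?_, fun hp => ?_, hadj J hJ, horth J hJ, fun c v hv => ?_, gen⟩
  · rw [Matrix.mulVec_mulVec, hsq, Matrix.add_mulVec, Matrix.smul_mulVec, Matrix.smul_mulVec,
      Matrix.one_mulVec, add_comm]
  · haveI : ExpChar F 2 := ExpChar.prime Nat.prime_two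
    obtain ⟨s, hs⟩ := FiniteField.isSquare_of_char_two (ringChar.eq F 2 ▸ rfl) δ
    rw [hp, zero_smul, add_zero] at hsq
    have hk : J - s • (1 : MM) ∈ K := K.sub_mem hJ (K.smul_mem K.one_mem _)
    have hk0 : J - s • (1 : MM) ≠ 0 := sub_ne_zero.2 (hJs s)
    have hsq0 : (J - s • (1 : MM)) * (J - s • (1 : MM)) = 0 := by
      rw [sub_mul, mul_sub, mul_sub, hsq, smul_mul_assoc, smul_mul_assoc, mul_smul_comm, mul_smul_comm,
        one_mul, mul_one, one_mul, smul_smul, ← hs]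
      ext i j
      simp only [Matrix.sub_apply, Matrix.smul_apply, Matrix.zero_apply, smul_eq_mul]
      linear_combination (δ * (1 : MM) i j - s * J i j) * (CharTwo.two_eq_zero : (2 : F) = 0)
    obtain ⟨y, hy, hky⟩ := hK.inv _ hk hk0
    refine hk0 ?_
    calc J - s • (1 : MM) = (J - s • (1 : MM)) * ((J - s • (1 : MM)) * y) := by rw [hky, mul_one]
        _ = 0 := by rw [← mul_assoc, hsq0, zero_mul]
  · refine unit (J - c • (1 : MM)) (K.sub_mem hJ (K.smul_mem K.one_mem _)) (sub_ne_zero.2 (hJs c)) v ?_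
    rw [Matrix.sub_mulVec, Matrix.smul_mulVec, Matrix.one_mulVec, hv, sub_self]

theorem field_ext_maximal [Fintype F] (h3 : 3 ≤ Fintype.card F) (hK : Cfsg.Geo.IsFieldSubalgebra 2 K)
    (hadj : Cfsg.Geo.IsSelfAdjointFor sf K) (horth : ∀ k ∈ K, ∀ v : VV, sf (k *ᵥ v) v = 0) :
    Cfsg.Geo.IsMaximalIn (Cfsg.spGL 2 F) (Cfsg.Geo.subalgebraNormalizer K ⊓ Cfsg.spGL 2 F) := by
  obtain ⟨J, p, δ, h⟩ := exists_extCtx hK hadj horth
  refine ⟨h.proper, fun M hHM hMS => ?_⟩
  by_cases ht : ∀ g ∈ M, ∀ a, sf ((g : MM) *ᵥ (J *ᵥ a)) (J *ᵥ ((g : MM) *ᵥ a)) = 0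
  · refine Or.inl (le_antisymm (fun g hg => ⟨fun k => ⟨h.conj_mem (hMS hg) (ht g hg) k, fun hk => ?_⟩, hMS hg⟩) hHM)
    have := h.conj_mem (inv_mem (hMS hg)) (ht g⁻¹ (inv_mem hg)) _ hk
    rwa [inv_inv, ← mul_assoc, ← mul_assoc, ← Units.val_mul, inv_mul_cancel, Units.val_one, one_mul, mul_assoc,
      ← Units.val_mul, inv_mul_cancel, Units.val_one, mul_one] at this
  · push Not at ht
    obtain ⟨g, hg, a₀, ha⟩ := ht
    obtain ⟨k, a, hk, ha0, hka⟩ := h.transv_of_tilt h3 hHM hMS hg ha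
    refine Or.inr (spGL_eq_of_full hMS fun v l => ?_)
    haveI : ExpChar F 2 := ExpChar.prime Nat.prime_two
    obtain ⟨s, hs⟩ := FiniteField.isSquare_of_char_two (ringChar.eq F 2 ▸ rfl) (l / k)
    have := h.spread hHM hMS ha0 hka (s • v)
    rwa [stv_scale, mul_assoc, ← hs, mul_div_cancel₀ _ hk] at this

end CfsgLib.Maximal.Sp4Even
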