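import Mathlib
import Cfsg.Agent.Lib.Maximal.Sp4Even.Radical
import Cfsg.Agent.Lib.Geometry.MatrixEquiv
import Cfsg.Prelude.Def_GeometricClasses

/-!
Orthogonal groups are maximal in the four-dimensional symplectic group in characteristic two.
-/

set_option autoImplicit false
set_option linter.unusedSectionVars false

namespace CfsgLib.Maximal.Sp4Even.Orth

open scoped Matrix
open CfsgLib.Maximal

variable {F : Type*} [Field F] {Q : (Fin 2 ⊕ Fin 2 → F) → F}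

local notation "sf" => Cfsg.sympForm 2 F
local notation "B" => CfsgLib.Geometry.sympBilin 2 F

lemma Q_add (hpol : ∀ u v, QuadraticMap.polar Q u v = sf u v) (u v : Fin 2 ⊕ Fin 2 → F) :
    Q (u + v) = Q u + Q v + sf u v := by
  have := hpol u v
  rw [QuadraticMap.polar] at this
  linear_combination this

variable [Fintype F] [CharP F 2]

lemma exists_sqrt (a : F) : ∃ s : F, s * s = a := by
  haveI : ExpChar F 2 := ExpChar.prime Nat.prime_two
  obtain ⟨s, hs⟩ := FiniteField.isSquare_of_char_two (ringChar.eq F 2 ▸ rfl) a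
  exact ⟨s, hs.symm⟩

/-- The standing hypotheses on the quadratic form. -/
structure Ctx (Q : (Fin 2 ⊕ Fin 2 → F) → F) : Prop where
  smul : ∀ (c : F) v, Q (c • v) = c ^ 2 * Q v
  pol : ∀ u v, QuadraticMap.polar Q u v = sf u v
  card : 3 ≤ Fintype.card F

lemma exists_value (h : Ctx Q) (L : Submodule F (Fin 2 ⊕ Fin 2 → F)) (hL : ∃ z ∈ L, Q z ≠ 0) (a : F) :
    ∃ z ∈ L, Q z = a := by
  obtain ⟨z, hz, hQ⟩ := hL
  obtain ⟨s, hs⟩ := exists_sqrt (a / Q z)
  exact ⟨s • z, L.smul_mem s hz, by rw [h.smul, sq, hs, div_mul_cancel₀ _ hQ]⟩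

/-- Any value of `Q` occurs on the perp of a hyperbolic pair. -/
lemma exists_perp_value (h : Ctx Q) {v y : Fin 2 ⊕ Fin 2 → F} (hvy : sf v y = 1) (a : F) :
    ∃ z, sf v z = 0 ∧ sf y z = 0 ∧ Q z = a := by
  classical
  let pr : (Fin 2 ⊕ Fin 2 → F) → (Fin 2 ⊕ Fin 2 → F) := fun x => x + sf v x • y + sf y x • v
  have hyv : sf y v = 1 := by rw [CfsgLib.Maximal.Sp4Even.sf_symm, hvy]
  have hpv : ∀ x, sf v (pr x) = 0 ∧ sf y (pr x) = 0 := fun x => by
    simp only [pr, sf_add_right, sf_smul_right, sf_alt, hvy, hyv, mul_one, mul_zero, add_zero,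
      CharTwo.add_self_eq_zero, and_self]
  let L : Submodule F (Fin 2 ⊕ Fin 2 → F) := LinearMap.ker (B v) ⊓ LinearMap.ker (B y)
  have hmem : ∀ z, z ∈ L ↔ sf v z = 0 ∧ sf y z = 0 := fun z => by simp [L]
  suffices hne : ∃ z ∈ L, Q z ≠ 0 by
    obtain ⟨z, hz, hQ⟩ := exists_value h L hne a
    exact ⟨z, ((hmem z).1 hz).1, ((hmem z).1 hz).2, hQ⟩
  by_contra hcon
  push Not at hcon
  obtain ⟨x, hx⟩ : ∃ x, x ∉ Submodule.span F ({v, y} : Set (Fin 2 ⊕ Fin 2 → F)) := by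
    by_contra hall
    push Not at hall
    have h1 := finrank_span_le_card (R := F) ({v, y} : Set (Fin 2 ⊕ Fin 2 → F))
    rw [Submodule.eq_top_iff'.2 hall, finrank_top] at h1
    have h2 := h1.trans (show _ ≤ 2 by simpa using Finset.card_le_two)
    simp at h2
  have hz0 : pr x ≠ 0 := fun h0 => hx (Submodule.mem_span_pair.2 ⟨sf y x, sf v x, funext fun i => by
    have h3 : x i + sf v x * y i + sf y x * v i = 0 := congrFun h0 i
    simp only [Pi.add_apply, Pi.smul_apply, smul_eq_mul]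
    linear_combination h3 - x i * (CharTwo.two_eq_zero : (2 : F) = 0)⟩)
  obtain ⟨u, hu⟩ := sf_exists _ hz0
  have hzu : sf (pr x) (pr u) = 1 := by
    show sf (pr x) (u + sf v u • y + sf y u • v) = 1
    rw [sf_add_right, sf_add_right, sf_smul_right, sf_smul_right, hu,
      CfsgLib.Maximal.Sp4Even.sf_symm (pr x) y, CfsgLib.Maximal.Sp4Even.sf_symm (pr x) v, (hpv x).1, (hpv x).2,
      mul_zero, mul_zero, add_zero, add_zero]
  have e := Q_add h.pol (pr x) (pr u)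
  rw [hcon _ (L.add_mem ((hmem _).2 (hpv x)) ((hmem _).2 (hpv u))), hcon _ ((hmem _).2 (hpv x)),
    hcon _ ((hmem _).2 (hpv u)), hzu] at e
  simp at e

lemma ne_zero_of_Q (h : Ctx Q) {v : Fin 2 ⊕ Fin 2 → F} (hv : Q v ≠ 0) : v ≠ 0 := fun h0 => by
  rw [h0, show (0 : Fin 2 ⊕ Fin 2 → F) = (0 : F) • 0 by simp, h.smul] at hv
  simp at hv

lemma Q_stv (h : Ctx Q) (w x : Fin 2 ⊕ Fin 2 → F) :
    Q ((stv 1 w : Matrix (Fin 2 ⊕ Fin 2) (Fin 2 ⊕ Fin 2) F) *ᵥ x) = Q x + sf x w ^ 2 * (Q w + 1) := by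
  rw [stv_mulVec, Q_add h.pol, h.smul, sf_smul_right]
  ring

lemma stv_mem_H (h : Ctx Q) {w : Fin 2 ⊕ Fin 2 → F} (hw : Q w = 1) :
    stv 1 w ∈ Cfsg.Geo.quadSimilarityGroup Q ⊓ Cfsg.spGL 2 F := by
  refine ⟨⟨1, fun x => ?_⟩, stv_mem_spGL _ _⟩
  rw [Q_stv h, hw, Units.val_one, one_mul, CharTwo.add_self_eq_zero, mul_zero, add_zero]

lemma proper (h : Ctx Q) : Cfsg.Geo.quadSimilarityGroup Q ⊓ Cfsg.spGL 2 F < Cfsg.spGL 2 F := by
  refine lt_of_le_of_ne inf_le_right fun heq => ?_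
  obtain ⟨e₀, he₀⟩ := sf_exists (Pi.single (Sum.inl 0) 1 : Fin 2 ⊕ Fin 2 → F) (by simp)
  obtain ⟨z₁, -, -, h1⟩ := exists_perp_value h he₀ 1
  obtain ⟨y, hy⟩ := sf_exists z₁ (ne_zero_of_Q h (h1 ▸ one_ne_zero))
  obtain ⟨z₂, hz20, hz21, h2⟩ := exists_perp_value h hy 1
  set w := z₁ + z₂ with hwdef
  have hw : Q w = 0 := by
    rw [hwdef, Q_add h.pol, h1, h2, hz20, add_zero, CharTwo.add_self_eq_zero]
  have hwy : sf w y = 1 := by
    rw [hwdef, sf_add_left, hy, sf_skew z₂ y, hz21, neg_zero, add_zero]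
  have hmem : stv 1 w ∈ Cfsg.Geo.quadSimilarityGroup Q ⊓ Cfsg.spGL 2 F := by rw [heq]; exact stv_mem_spGL _ _
  obtain ⟨k, hk⟩ := hmem.1
  obtain ⟨x, hx, -, hQx⟩ := exists_perp_value h hwy 1
  have hk1 := hk x
  rw [Q_stv h, hQx, sf_skew x w, hx, mul_one] at hk1
  have hk' : (k : F) = 1 := by linear_combination -hk1
  have hy' := hk y
  rw [Q_stv h, hw, hk', one_mul, sf_skew y w, hwy] at hy'
  exact one_ne_zero (by linear_combination hy' : (1 : F) = 0)

variable {M : Subgroup (Matrix.GeneralLinearGroup (Fin 2 ⊕ Fin 2) F)}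

lemma closed (hMS : M ≤ Cfsg.spGL 2 F) {v w : Fin 2 ⊕ Fin 2 → F} (hv : stv 1 v ∈ M) (hw : stv 1 w ∈ M) :
    stv 1 (w + sf w v • v) ∈ M := by
  have := mul_mem (mul_mem hv hw) (inv_mem hv)
  rw [stv_conj (hMS hv), stv_mulVec, one_mul] at this
  exact this

/-- Within a level set, membership spreads to vectors not orthogonal. -/
lemma level_step (h : Ctx Q) (hHM : Cfsg.Geo.quadSimilarityGroup Q ⊓ Cfsg.spGL 2 F ≤ M) (hMS : M ≤ Cfsg.spGL 2 F)
    {v v' : Fin 2 ⊕ Fin 2 → F} (hv : stv 1 v ∈ M) (hQ : Q v = Q v') (hf : sf v v' ≠ 0) : stv 1 v' ∈ M := by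
  obtain ⟨s, hs⟩ := exists_sqrt (sf v v')
  have hs0 : s ≠ 0 := fun h0 => hf (by rw [← hs, h0, mul_zero])
  have hw : Q (s⁻¹ • (v + v')) = 1 := by
    rw [h.smul, Q_add h.pol, hQ, CharTwo.add_self_eq_zero, zero_add, ← hs]
    field_simp
  have h1 := closed hMS (hHM (stv_mem_H h hw)) hv
  rw [sf_smul_right, sf_add_right, sf_alt, zero_add, ← hs, inv_mul_cancel_left₀ hs0, smul_inv_smul₀ hs0,
    ← add_assoc] at h1
  rwa [show v + v = 0 from funext fun i => CharTwo.add_self_eq_zero _, zero_add] at h1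

lemma level (h : Ctx Q) (hHM : Cfsg.Geo.quadSimilarityGroup Q ⊓ Cfsg.spGL 2 F ≤ M) (hMS : M ≤ Cfsg.spGL 2 F)
    {v v' : Fin 2 ⊕ Fin 2 → F} (hv0 : v ≠ 0) (hv0' : v' ≠ 0) (hv : stv 1 v ∈ M) (hQ : Q v = Q v') :
    stv 1 v' ∈ M := by
  classical
  by_cases hvv : sf v v' = 0
  swap
  · exact level_step h hHM hMS hv hQ hvv
  obtain ⟨y, hy, hy'⟩ := sf_exists₂ v v' hv0 hv0'
  obtain ⟨r, hr⟩ : ∃ r : F, Q (y + r • v) ≠ 0 := by
    by_contra hcon
    push Not at hcon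
    have hfac : ∀ r : F, r = 0 ∨ r * Q v + sf y v = 0 := fun r => by
      refine mul_eq_zero.1 ?_
      have h1 := hcon r
      have h0 := hcon 0
      rw [Q_add h.pol, h.smul, sf_smul_right] at h1 h0
      linear_combination h1 - h0
    have hQv : Q v ≠ 0 := fun h0 => by
      have := hfac 1
      rw [h0, mul_zero, zero_add] at this
      exact hy (by rw [sf_skew, this.resolve_left one_ne_zero, neg_zero])
    have hsub : (Finset.univ : Finset F) ⊆ {0, -sf y v / Q v} := fun r _ => by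
      rcases hfac r with h1 | h1
      · simp [h1]
      · rw [Finset.mem_insert, Finset.mem_singleton]
        refine Or.inr ?_
        rw [eq_div_iff hQv]
        linear_combination h1
    have := (Finset.card_le_card hsub).trans Finset.card_le_two
    rw [Finset.card_univ] at this
    have := h.card
    omega
  obtain ⟨d, rfl⟩ : ∃ d, d = y + r • v := ⟨_, rfl⟩
  have hvd : sf v (y + r • v) ≠ 0 := by rwa [sf_add_right, sf_smul_right, sf_alt, mul_zero, add_zero]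
  have hv'd : sf v' (y + r • v) ≠ 0 := by
    rwa [sf_add_right, sf_smul_right, sf_skew v' v, hvv, neg_zero, mul_zero, add_zero]
  set d := y + r • v
  set c := sf v d / Q d with hc
  have hc0 : c ≠ 0 := div_ne_zero hvd hr
  have e1 : sf v (v + c • d) ≠ 0 := by
    rw [sf_add_right, sf_alt, zero_add, sf_smul_right]; exact mul_ne_zero hc0 hvd
  have e2 : sf (v + c • d) v' ≠ 0 := by
    rw [sf_add_left, hvv, zero_add, sf_smul_left, sf_skew d v']
    exact mul_ne_zero hc0 (neg_ne_zero.2 hv'd)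
  have e3 : Q (v + c • d) = Q v := by
    rw [Q_add h.pol, h.smul, sf_smul_right]
    have hcd : c * Q d = sf v d := div_mul_cancel₀ _ hr
    linear_combination c * hcd + c * sf v d * (CharTwo.two_eq_zero : (2 : F) = 0)
  exact level_step h hHM hMS (level_step h hHM hMS hv e3.symm e1) (e3.trans hQ) e2

lemma all_stv (h : Ctx Q) (hHM : Cfsg.Geo.quadSimilarityGroup Q ⊓ Cfsg.spGL 2 F ≤ M) (hMS : M ≤ Cfsg.spGL 2 F)
    {v : Fin 2 ⊕ Fin 2 → F} (hv0 : v ≠ 0) (hv : stv 1 v ∈ M) (ha : Q v ≠ 1) (k : F) (u : Fin 2 ⊕ Fin 2 → F) :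
    stv k u ∈ M := by
  have key : ∀ u, stv 1 u ∈ M := by
    intro u
    rcases eq_or_ne u 0 with rfl | hu
    · convert one_mem M using 1
      refine Units.ext (CfsgLib.Geometry.matrix_eq_of_mulVec fun x => ?_)
      simp [stv_mulVec]
    have hne : Q v + 1 ≠ 0 := fun h0 => ha (CharTwo.add_eq_zero.1 h0)
    obtain ⟨t, ht⟩ := exists_sqrt ((1 + Q u) / (Q v + 1))
    obtain ⟨y, hy⟩ := sf_exists v hv0
    obtain ⟨z, hz0', hz1', hQz⟩ := exists_perp_value h hy (1 + t ^ 2 * Q y)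
    set w := t • y + z with hwdef
    have hw : Q w = 1 := by
      rw [hwdef, Q_add h.pol, h.smul, hQz, sf_smul_left, hz1', mul_zero, add_zero]
      linear_combination CharTwo.add_self_eq_zero (t ^ 2 * Q y)
    have hwv : sf w v = t := by
      rw [hwdef, sf_add_left, sf_smul_left, sf_skew y v, hy, sf_skew z v, hz0',
        CharTwo.neg_eq, neg_zero, mul_one, add_zero]
    have hx : stv 1 (w + t • v) ∈ M := by
      rw [← hwv]; exact closed hMS hv (hHM (stv_mem_H h hw))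
    have hQx : Q (w + t • v) = Q u := by
      rw [Q_add h.pol, hw, h.smul, sf_smul_right, hwv, sq, ht]
      field_simp
      linear_combination (1 + Q v) * (CharTwo.add_self_eq_zero (1 : F))
    have hx0 : w + t • v ≠ 0 := by
      intro h0
      have h1 := congrArg (fun z => sf z v) h0
      simp only [sf_add_left, sf_smul_left, sf_alt, mul_zero, add_zero, sf_zero_left, hwv] at h1
      rw [h1, zero_smul, add_zero] at h0
      exact ne_zero_of_Q h (hw ▸ one_ne_zero) h0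
    exact level h hHM hMS hx0 hu hx hQx
  obtain ⟨c, hc⟩ := exists_sqrt k
  have := key (c • u)
  rwa [stv_scale, one_mul, hc] at this

theorem orth_maximal (h : Ctx Q) :
    Cfsg.Geo.IsMaximalIn (Cfsg.spGL 2 F) (Cfsg.Geo.quadSimilarityGroup Q ⊓ Cfsg.spGL 2 F) := by
  refine ⟨proper h, fun M hHM hMS => or_iff_not_imp_left.2 fun hne => le_antisymm hMS ?_⟩
  obtain ⟨g, hgM, hg⟩ : ∃ g ∈ M, g ∉ Cfsg.Geo.quadSimilarityGroup Q := by
    by_contra hcon
    push Not at hcon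
    exact hne (le_antisymm (fun g hg => ⟨hcon g hg, hMS hg⟩) hHM)
  suffices hex : ∃ w, Q w = 1 ∧ Q ((g : Matrix (Fin 2 ⊕ Fin 2) (Fin 2 ⊕ Fin 2) F) *ᵥ w) ≠ 1 by
    obtain ⟨w, hw, hgw⟩ := hex
    have hv : stv 1 ((g : Matrix (Fin 2 ⊕ Fin 2) (Fin 2 ⊕ Fin 2) F) *ᵥ w) ∈ M := by
      rw [← stv_conj (hMS hgM)]
      exact mul_mem (mul_mem hgM (hHM (stv_mem_H h hw))) (inv_mem hgM)
    have hv0 : (g : Matrix (Fin 2 ⊕ Fin 2) (Fin 2 ⊕ Fin 2) F) *ᵥ w ≠ 0 := fun h0 =>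
      ne_zero_of_Q h (hw ▸ one_ne_zero) (mulVec_inj g (by simpa using h0))
    exact spGL_le_of_stv (all_stv h hHM hMS hv0 hv hgw)
  by_contra hcon
  push Not at hcon
  refine hg ⟨1, fun x => ?_⟩
  rw [Units.val_one, one_mul]
  have hpos : ∀ x, Q x ≠ 0 → Q ((g : Matrix (Fin 2 ⊕ Fin 2) (Fin 2 ⊕ Fin 2) F) *ᵥ x) = Q x := by
    intro x hx
    obtain ⟨s, hs⟩ := exists_sqrt (Q x)
    have hs0 : s ≠ 0 := fun h0 => hx (by rw [← hs, h0, mul_zero])
    have h1 := hcon (s⁻¹ • x) (by rw [h.smul, ← hs]; field_simp)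
    rw [Matrix.mulVec_smul, h.smul, inv_pow, inv_mul_eq_iff_eq_mul₀ (pow_ne_zero _ hs0), mul_one, sq, hs] at h1
    exact h1
  by_cases hx : Q x = 0
  · by_contra hgx
    classical
    let S : Set (Fin 2 ⊕ Fin 2 → F) := {y | Q y ≠ 0}
    have hmaps : Set.MapsTo ((g : Matrix (Fin 2 ⊕ Fin 2) (Fin 2 ⊕ Fin 2) F) *ᵥ ·) S S := fun y hy => by
      show Q _ ≠ 0
      rw [hpos y hy]; exact hy
    have hsurj := (S.toFinite.injOn_iff_bijOn_of_mapsTo hmaps).1 ((mulVec_inj g).injOn)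
    obtain ⟨y, hy, hyx⟩ := hsurj.surjOn (show Q _ ≠ 0 from fun h0 => hgx (h0.trans hx.symm))
    exact hy (by rw [mulVec_inj g hyx]; exact hx)
  · exact hpos x hx

end CfsgLib.Maximal.Sp4Even.Orth
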