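import Mathlib
import Cfsg.Agent.Lib.Maximal.Sp4Even.Radical
import Cfsg.Agent.Lib.Maximal.SpSubBasic

/-!
Overgroups of the rational symplectic group in dimension four, characteristic two: basic moves and the
case of a large long root group.
-/

set_option autoImplicit false
set_option linter.unusedSectionVars false

namespace CfsgLib.Maximal.Sp4Even

open scoped Matrix

variable {F : Type*} [Field F] [CharP F 2]

local notation "sf" => Cfsg.sympForm 2 F
local notation "VV" => (Fin 2 ⊕ Fin 2 → F)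
local notation "GG" => Matrix.GeneralLinearGroup (Fin 2 ⊕ Fin 2) F

/-- The standard basis vectors. -/
def bv (i : Fin 2 ⊕ Fin 2) : VV := Pi.single i 1

local notation "e₁" => (bv (Sum.inl 0) : Fin 2 ⊕ Fin 2 → F)
local notation "e₂" => (bv (Sum.inl 1) : Fin 2 ⊕ Fin 2 → F)
local notation "f₁" => (bv (Sum.inr 0) : Fin 2 ⊕ Fin 2 → F)
local notation "f₂" => (bv (Sum.inr 1) : Fin 2 ⊕ Fin 2 → F)

lemma ratV_bv {F₀ : Subfield F} (i : Fin 2 ⊕ Fin 2) : RatV F₀ (bv i : VV) := ratV_single i F₀.one_mem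

lemma sf_four (u v : VV) : sf u v =
    u (Sum.inl 0) * v (Sum.inr 0) + u (Sum.inr 0) * v (Sum.inl 0) +
      u (Sum.inl 1) * v (Sum.inr 1) + u (Sum.inr 1) * v (Sum.inl 1) := by
  rw [CfsgLib.Geometry.sympForm_eq, Fin.sum_univ_two]
  linear_combination -(u (Sum.inl 0) * v (Sum.inr 0) + u (Sum.inl 1) * v (Sum.inr 1)) *
    (CharTwo.two_eq_zero : (2 : F) = 0)

lemma sf_bv (v : VV) :
    sf v e₁ = v (Sum.inr 0) ∧ sf v f₁ = v (Sum.inl 0) ∧ sf v e₂ = v (Sum.inr 1) ∧ sf v f₂ = v (Sum.inl 1) := by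
  simp [sf_four, bv, Pi.single_apply]

/-- A group of isometries containing all rational ones. -/
structure RatOver (F₀ : Subfield F) (M : Subgroup GG) : Prop where
  le : M ≤ Cfsg.spGL 2 F
  mem : ∀ g, g ∈ Cfsg.spGL 2 F → RatM F₀ (Units.val g) → g ∈ M

variable {F₀ : Subfield F} {M : Subgroup (Matrix.GeneralLinearGroup (Fin 2 ⊕ Fin 2) F)}

lemma RatOver.stv_mem (h : RatOver F₀ M) {k : F} (hk : k ∈ F₀) {w : VV} (hw : RatV F₀ w) : stv k w ∈ M :=
  h.mem _ (stv_mem_spGL _ _) (ratM_stv hk hw)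

lemma RatOver.rad_mem (h : RatOver F₀ M) {k : F} (hk : k ∈ F₀) {w b : VV} (hw : RatV F₀ w) (hb : RatV F₀ b) :
    rad k w b ∈ M :=
  mul_mem (mul_mem (h.stv_mem (F₀.add_mem hk F₀.one_mem) hb) (h.stv_mem F₀.one_mem (hw.add' hb)))
    (h.stv_mem F₀.one_mem hw)

/-- A rational transvection moving one vector to another. -/
lemma RatOver.exists_step (h : RatOver F₀ M) {a c : VV} (ha : RatV F₀ a) (hc : RatV F₀ c) (hne : sf a c ≠ 0) :
    ∃ g ∈ M, (g : Matrix _ _ F) *ᵥ a = c ∧ ∀ x, sf x a = 0 → sf x c = 0 → (g : Matrix _ _ F) *ᵥ x = x := by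
  refine ⟨stv (sf a c)⁻¹ (a + c), h.stv_mem (F₀.inv_mem (rat_sf ha hc)) (ha.add' hc), ?_, fun x hxa hxc => ?_⟩
  · rw [stv_mulVec, sf_add_right, sf_alt, zero_add, inv_mul_cancel₀ hne, one_smul, ← add_assoc, add_self_vec,
      zero_add]
  · rw [stv_mulVec, sf_add_right, hxa, hxc, add_zero, mul_zero, zero_smul, add_zero]

lemma RatOver.exists_move (h : RatOver F₀ M) {a c : VV} (ha : RatV F₀ a) (ha0 : a ≠ 0) (hc : RatV F₀ c)
    (hc0 : c ≠ 0) : ∃ g ∈ M, (g : Matrix _ _ F) *ᵥ a = c := by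
  obtain ⟨y, hy, hay, hcy⟩ := exists_rat_both ha ha0 hc hc0
  obtain ⟨g, hg, hga, -⟩ := h.exists_step ha hy hay
  obtain ⟨g', hg', hgy, -⟩ := h.exists_step hy hc (by rwa [sf_symm])
  exact ⟨g' * g, mul_mem hg' hg, by rw [Units.val_mul, ← Matrix.mulVec_mulVec, hga, hgy]⟩

/-- Exchanging two vectors of a hyperbolic frame that are orthogonal. -/
lemma RatOver.exists_swap (h : RatOver F₀ M) {a b a' b' : VV} (ha : RatV F₀ a) (hb : RatV F₀ b)
    (ha' : RatV F₀ a') (hb' : RatV F₀ b') (haa : sf a a' = 1) (hbb : sf b b' = 1) (hab : sf a b = 0)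
    (hab' : sf a b' = 0) (hba' : sf b a' = 0) :
    ∃ g ∈ M, (g : Matrix _ _ F) *ᵥ a = b ∧ (g : Matrix _ _ F) *ᵥ b = a := by
  have hba : sf b a = 0 := by rw [sf_symm, hab]
  refine ⟨rad 0 b a' * rad 0 a b' * rad 0 b a',
    mul_mem (mul_mem (h.rad_mem F₀.zero_mem hb ha') (h.rad_mem F₀.zero_mem ha hb'))
      (h.rad_mem F₀.zero_mem hb ha'), ?_, ?_⟩ <;>
  · simp only [Units.val_mul, ← Matrix.mulVec_mulVec, rad_mulVec _ hba', rad_mulVec _ hab', sf_add_left, sf_alt,
      sf_smul_left, haa, hbb, hab, hab', hba, hba', zero_mul, mul_zero, zero_smul, one_smul, add_zero, zero_add]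
    funext i
    simp only [Pi.add_apply, Pi.smul_apply, smul_eq_mul]
    first
      | linear_combination a i * (CharTwo.two_eq_zero : (2 : F) = 0)
      | linear_combination -a i * (CharTwo.two_eq_zero : (2 : F) = 0)
      | linear_combination b i * (CharTwo.two_eq_zero : (2 : F) = 0)
      | linear_combination (a i + b i) * (CharTwo.two_eq_zero : (2 : F) = 0)
      | linear_combination (b i - a i) * (CharTwo.two_eq_zero : (2 : F) = 0)
      | linear_combination (2 * b i + a i) * (CharTwo.two_eq_zero : (2 : F) = 0)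

/-- Parameters of the long root groups with rational centre. -/
def Long (F₀ : Subfield F) (M : Subgroup GG) (μ : F) : Prop :=
  ∀ w : VV, RatV F₀ w → stv μ w ∈ M

lemma RatOver.long_of (h : RatOver F₀ M) {μ : F} {a : VV} (ha : RatV F₀ a) (ha0 : a ≠ 0)
    (hm : stv μ a ∈ M) : Long F₀ M μ := by
  intro w hw
  rcases eq_or_ne w 0 with rfl | hw0
  · rw [stv_zero]; exact one_mem M
  obtain ⟨g, hg, hga⟩ := h.exists_move ha ha0 hw hw0
  have := stv_map h.le hg hm
  rwa [hga] at this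

lemma Long.add {μ ν : F} (hμ : Long F₀ M μ) (hν : Long F₀ M ν) : Long F₀ M (μ + ν) := fun w hw => by
  rw [← stv_mul]; exact mul_mem (hμ w hw) (hν w hw)

section big

variable [Fintype F]

lemma exists_sqrt_mem {c : F} (hc : c ∈ F₀) : ∃ s ∈ F₀, s * s = c := by
  haveI : ExpChar F 2 := ExpChar.prime Nat.prime_two
  obtain ⟨s, hs⟩ := FiniteField.isSquare_of_char_two (ringChar.eq F 2 ▸ rfl) c
  refine ⟨s, ?_, hs.symm⟩
  haveI : CharP F₀ 2 := CharTwo.of_one_ne_zero_of_two_eq_zero one_ne_zero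
    (Subtype.ext (by push_cast; exact CharTwo.two_eq_zero))
  haveI := Fintype.ofFinite F₀
  obtain ⟨y, hy⟩ := FiniteField.isSquare_of_char_two ((ringChar.eq_iff).2 ‹CharP F₀ 2›) ⟨c, hc⟩
  have hy' : s * s = (y : F) * y := hs.symm.trans (congrArg Subtype.val hy)
  rw [(mul_self_eq_mul_self_iff.1 hy').elim id (fun e => e.trans (CharTwo.neg_eq _))]
  exact y.2

lemma sq_mem_iff {x : F} : x * x ∈ F₀ ↔ x ∈ F₀ := by
  refine ⟨fun hx => ?_, fun hx => F₀.mul_mem hx hx⟩
  obtain ⟨s, hs, e⟩ := exists_sqrt_mem hx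
  rwa [(mul_self_eq_mul_self_iff.1 e.symm).elim id (fun e => e.trans (CharTwo.neg_eq _))]

lemma RatOver.long_smul (h : RatOver F₀ M) {μ c : F} (hμ : Long F₀ M μ) (hc : c ∈ F₀) : Long F₀ M (μ * c) := by
  intro w hw
  obtain ⟨s, hs, rfl⟩ := exists_sqrt_mem hc
  rw [← mul_assoc, ← stv_scale]
  exact hμ _ (hw.smul hs)

lemma RatOver.short_of_long (h : RatOver F₀ M) {x : F} (hx : Long F₀ M x) {a b : VV} (ha : RatV F₀ a)
    (hb : RatV F₀ b) (hab : sf a b = 0) : rad 0 (x • a) b ∈ M := by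
  haveI : ExpChar F 2 := ExpChar.prime Nat.prime_two
  obtain ⟨s, rfl⟩ := FiniteField.isSquare_of_char_two (ringChar.eq F 2 ▸ rfl) x
  have hw : ∀ w, RatV F₀ w → stv 1 (s • w) ∈ M := fun w hw' => by
    rw [stv_scale, one_mul]; exact hx w hw'
  have h1 : rad 1 (s • a) (s • b) ∈ M := rad_mem_of_stv (by rw [sf_smul_left, sf_smul_right, hab, mul_zero, mul_zero])
    (hw a ha) (by rw [← smul_add]; exact hw _ (ha.add' hb))
  rw [rad_smul_right _ _ (by rw [sf_smul_left, hab, mul_zero]), one_mul, smul_smul,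
    rad_split _ (by rw [sf_smul_left, hab, mul_zero])] at h1
  exact (mul_mem_cancel_left (hx b hb)).1 h1

/-- The commutator of a short with a long root element. -/
lemma RatOver.mixed (h : RatOver F₀ M) {x l : F} (hx : Long F₀ M x) (hl : Long F₀ M l) {a b c : VV}
    (ha : RatV F₀ a) (hb : RatV F₀ b) (hc : RatV F₀ c) (hca : sf c a = 1) (hcb : sf c b = 0) (hab : sf a b = 0) :
    rad (l * (x * x)) ((l * x) • c) b ∈ M := by
  haveI : ExpChar F 2 := ExpChar.prime Nat.prime_two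
  obtain ⟨s, rfl⟩ := FiniteField.isSquare_of_char_two (ringChar.eq F 2 ▸ rfl) l
  have h1 : stv 1 (s • c) ∈ M := by rw [stv_scale, one_mul]; exact hl c hc
  have h2 := stv_map h.le (h.short_of_long hx ha hb hab) h1
  rw [rad_mulVec _ (by rw [sf_smul_left, hab, mul_zero])] at h2
  simp only [sf_smul_left, sf_smul_right, hcb, hca, mul_zero, mul_one, zero_smul, add_zero] at h2
  have h3 := rad_mem_of_stv (by rw [sf_smul_left, sf_smul_right, hcb, mul_zero, mul_zero]) h1 h2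
  rw [rad_smul_right _ _ (by rw [sf_smul_left, hcb, mul_zero]), smul_smul] at h3
  convert h3 using 2
  · ring
  · congr 1; ring

lemma RatOver.long_top (h : RatOver F₀ M) {r : ℕ} (hr : r.Prime) (hcard : Fintype.card F = Nat.card F₀ ^ r)
    {μ : F} (hμ : Long F₀ M μ) (hμF : μ ∉ F₀) (k : F) : Long F₀ M k := by
  classical
  have hsf : sf (e₂) f₂ = 1 ∧ sf f₂ e₂ = 1 ∧ sf e₂ e₁ = 0 ∧ sf f₂ e₁ = 0 ∧ sf e₁ f₂ = 0 := by
    simp [sf_four, bv, Pi.single_apply]
  obtain ⟨h22, h22', h21, hf21, h12'⟩ := hsf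
  have hone : Long F₀ M 1 := fun w hw => h.stv_mem F₀.one_mem hw
  have hzero : Long F₀ M 0 := fun w hw => h.stv_mem F₀.zero_mem hw
  have e10 : (e₁ : Fin 2 ⊕ Fin 2 → F) ≠ 0 := by simp [bv]
  have sq : ∀ x, Long F₀ M x → Long F₀ M (x * x) := by
    intro x hx
    have h1 := h.mixed hx hone (ratV_bv (Sum.inr 1)) (ratV_bv (Sum.inl 0)) (ratV_bv (Sum.inl 1)) h22 h21 hf21
    rw [one_mul, one_mul, rad_split _ (by rw [sf_smul_left, h21, mul_zero])] at h1
    exact h.long_of (ratV_bv _) e10 ((mul_mem_cancel_right (h.short_of_long hx (ratV_bv _) (ratV_bv _) h21)).1 h1)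
  have key : ∀ x l, Long F₀ M x → Long F₀ M l → Long F₀ M (x * x * (l + l * l)) := by
    intro x l hx hl
    have h1 := h.mixed hx hl (ratV_bv (Sum.inr 1)) (ratV_bv (Sum.inl 0)) (ratV_bv (Sum.inl 1)) h22 h21 hf21
    have h2 := rad_map h.le (h.stv_mem F₀.one_mem (ratV_bv (Sum.inr 1))) h1
    rw [Matrix.mulVec_smul, stv_mulVec, stv_mulVec, h22, h12', mul_one, mul_zero, zero_smul, add_zero, one_smul]
      at h2
    have h3 := mul_mem h2 h1
    rw [rad_mul _ _ (by rw [sf_smul_left, sf_add_left, h21, hf21, add_zero, mul_zero])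
      (by rw [sf_smul_left, h21, mul_zero])] at h3
    have h4 := mul_mem h3
      (h.mixed hx hl (ratV_bv (Sum.inl 1)) (ratV_bv (Sum.inl 0)) (ratV_bv (Sum.inr 1)) h22' hf21 h21)
    have ev : (l * x) • (e₂ + f₂) + (l * x) • e₂ = (l * x) • f₂ := by
      rw [smul_add, add_comm ((l * x) • e₂), add_assoc, add_self_vec, add_zero]
    rw [ev, rad_mul _ _ (by rw [sf_smul_left, hf21, mul_zero]) (by rw [sf_smul_left, hf21, mul_zero]), sf_alt,
      add_self_vec, rad_zero_left, sf_smul_left, sf_smul_right, sf_add_right, sf_alt, h22] at h4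
    refine h.long_of (ratV_bv _) e10 ?_
    convert h4 using 2
    linear_combination (-(l * (x * x))) * (CharTwo.two_eq_zero : (2 : F) = 0)
  have hsurj : ∀ y, Long F₀ M y → ∃ x, Long F₀ M x ∧ y = x * x := by
    intro y hy
    let S : Set F := {x | Long F₀ M x}
    have hinj : Set.InjOn (fun x : F => x * x) S := fun a _ b _ e =>
      (mul_self_eq_mul_self_iff.1 e).elim id (fun e => e.trans (CharTwo.neg_eq _))
    obtain ⟨x, hx, rfl⟩ := ((S.toFinite.injOn_iff_bijOn_of_mapsTo fun a ha => sq a ha).1 hinj).surjOn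
      (show y ∈ S from hy)
    exact ⟨x, hx, rfl⟩
  have hfr : Module.finrank F₀ F = r := by
    have h1 := Module.card_eq_pow_finrank (K := F₀) (V := F)
    rw [hcard, Nat.card_eq_fintype_card] at h1
    exact (Nat.pow_right_injective Fintype.one_lt_card h1).symm
  haveI := Subalgebra.isSimpleOrder_of_finrank_prime F₀ F (hfr ▸ hr)
  let R : Subalgebra F₀ F :=
    { carrier := {c | ∀ x, Long F₀ M x → Long F₀ M (x * c)}
      one_mem' := fun x hx => by rwa [mul_one]
      zero_mem' := fun x _ => by rw [mul_zero]; exact hzero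
      add_mem' := fun {a b} ha hb x hx => by rw [mul_add]; exact (ha x hx).add (hb x hx)
      mul_mem' := fun {a b} ha hb x hx => by rw [← mul_assoc]; exact hb _ (ha x hx)
      algebraMap_mem' := fun c x hx => h.long_smul hx c.2 }
  have hmem : μ + μ * μ ∈ R := fun x hx => by
    obtain ⟨y, hy, rfl⟩ := hsurj x hx
    exact key y μ hy hμ
  rcases eq_bot_or_eq_top R with hR | hR
  swap
  · have := (show k ∈ R from hR ▸ Algebra.mem_top) 1 hone
    rwa [one_mul] at this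
  obtain ⟨d, hd⟩ := Algebra.mem_bot.1 (hR ▸ hmem : μ + μ * μ ∈ (⊥ : Subalgebra F₀ F))
  change (d : F) = μ + μ * μ at hd
  let A : Subalgebra F₀ F :=
    { carrier := {y | ∃ a b : F, a ∈ F₀ ∧ b ∈ F₀ ∧ y = a + μ * b}
      one_mem' := ⟨1, 0, F₀.one_mem, F₀.zero_mem, by simp⟩
      zero_mem' := ⟨0, 0, F₀.zero_mem, F₀.zero_mem, by simp⟩
      add_mem' := by
        rintro _ _ ⟨a, b, ha, hb, rfl⟩ ⟨a', b', ha', hb', rfl⟩
        exact ⟨a + a', b + b', F₀.add_mem ha ha', F₀.add_mem hb hb', by ring⟩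
      mul_mem' := by
        rintro _ _ ⟨a, b, ha, hb, rfl⟩ ⟨a', b', ha', hb', rfl⟩
        refine ⟨a * a' + d * (b * b'), a * b' + a' * b - b * b', F₀.add_mem (F₀.mul_mem ha ha')
          (F₀.mul_mem d.2 (F₀.mul_mem hb hb')), F₀.sub_mem (F₀.add_mem (F₀.mul_mem ha hb') (F₀.mul_mem ha' hb))
          (F₀.mul_mem hb hb'), ?_⟩
        linear_combination (-(b * b')) * hd
      algebraMap_mem' := fun c => ⟨c, 0, c.2, F₀.zero_mem, (show (c : F) = c + μ * 0 by simp)⟩ }
  rcases eq_bot_or_eq_top A with hA | hA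
  · exfalso
    have hμA : μ ∈ A := ⟨0, 1, F₀.zero_mem, F₀.one_mem, by simp⟩
    obtain ⟨c, hc⟩ := Algebra.mem_bot.1 (hA ▸ hμA : μ ∈ (⊥ : Subalgebra F₀ F))
    exact hμF (hc ▸ c.2)
  · obtain ⟨a, b, ha, hb, rfl⟩ := (show k ∈ A from hA ▸ Algebra.mem_top)
    refine Long.add ?_ (h.long_smul hμ hb)
    have := h.long_smul hone ha
    rwa [one_mul] at this

lemma nondeg_pair {a b : VV} (hab : sf a b = 1) :
    Cfsg.Geo.IsNondegenerateOn sf (Submodule.span F ({a, b} : Set VV)) := by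
  intro w hw hw0
  obtain ⟨x, y, rfl⟩ := Submodule.mem_span_pair.1 hw
  have hba : sf b a = 1 := by rw [sf_symm, hab]
  rcases eq_or_ne x 0 with rfl | hx
  · have hy : y ≠ 0 := fun h0 => hw0 (by simp [h0])
    refine ⟨⟨a, Submodule.subset_span (by simp), ?_⟩, ⟨a, Submodule.subset_span (by simp), ?_⟩⟩
    · simpa [sf_add_right, sf_smul_right, hab, sf_alt] using hy
    · simpa [sf_add_left, sf_smul_left, hba, sf_alt] using hy
  · refine ⟨⟨b, Submodule.subset_span (by simp), ?_⟩, ⟨b, Submodule.subset_span (by simp), ?_⟩⟩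
    · simpa [sf_add_right, sf_smul_right, hba, sf_alt] using hx
    · simpa [sf_add_left, sf_smul_left, hab, sf_alt] using hx

/-- A large long root group gives everything. -/
lemma RatOver.eq_of_long (h : RatOver F₀ M) {r : ℕ} (hr : r.Prime) (hcard : Fintype.card F = Nat.card F₀ ^ r)
    {μ : F} (hμ : Long F₀ M μ) (hμF : μ ∉ F₀) : M = Cfsg.spGL 2 F := by
  have hrat : ∀ w, RatV F₀ w → SpFull M w := fun w hw k => h.long_top hr hcard hμ hμF k w hw
  have plane : ∀ {a b : VV}, RatV F₀ a → RatV F₀ b → sf a b = 1 →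
      ∀ w ∈ Submodule.span F ({a, b} : Set VV), SpFull M w := by
    intro a b ha hb hab w hw
    obtain ⟨x, y, rfl⟩ := Submodule.mem_span_pair.1 hw
    rcases eq_or_ne x 0 with rfl | hx
    · simpa using (hrat b hb).smul y
    · exact SpFull.move h.le (hrat b hb) ((hrat a ha).smul x) (by rw [sf_smul_left, hab, mul_one]; exact hx) y
  have h11 : sf (e₁) f₁ = 1 := by simp [sf_four, bv, Pi.single_apply]
  have h22 : sf (e₂) f₂ = 1 := by simp [sf_four, bv, Pi.single_apply]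
  refine spGL_eq_of_full h.le fun v => ?_
  set S₁ := Submodule.span F ({e₁, f₁} : Set (Fin 2 ⊕ Fin 2 → F))
  set S₂ := Submodule.span F ({e₂, f₂} : Set (Fin 2 ⊕ Fin 2 → F))
  set u := v (Sum.inl 0) • e₁ + v (Sum.inr 0) • f₁ with hu
  set p := v (Sum.inl 1) • e₂ + v (Sum.inr 1) • f₂ with hp
  have hv : v = u + p := by
    funext i
    rcases i with i | i <;> fin_cases i <;> simp [hu, hp, bv, Pi.single_apply]
  have hu1 : u ∈ S₁ := Submodule.mem_span_pair.2 ⟨_, _, hu.symm⟩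
  have hp2 : p ∈ S₂ := Submodule.mem_span_pair.2 ⟨_, _, hp.symm⟩
  have full₁ := plane (ratV_bv (Sum.inl 0)) (ratV_bv (Sum.inr 0)) h11
  have full₂ := plane (ratV_bv (Sum.inl 1)) (ratV_bv (Sum.inr 1)) h22
  rcases eq_or_ne u 0 with hu0 | hu0
  · rw [hv, hu0, zero_add]; exact full₂ p hp2
  rcases eq_or_ne p 0 with hp0 | hp0
  · rw [hv, hp0, add_zero]; exact full₁ u hu1
  have cross₁ : ∀ s ∈ S₁, sf e₂ s = 0 := by
    intro s hs
    obtain ⟨x, y, rfl⟩ := Submodule.mem_span_pair.1 hs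
    simp [sf_four, bv, Pi.single_apply]
  have cross₂ : ∀ s ∈ S₂, sf u s = 0 := by
    intro s hs
    obtain ⟨x, y, rfl⟩ := Submodule.mem_span_pair.1 hs
    simp [hu, sf_four, bv, Pi.single_apply]
  have h1 := SpFull.change h.le S₁ (nondeg_pair h11) full₁ (Submodule.subset_span (by simp))
    (by simp [bv]) hu1 hu0 cross₁ (hrat _ ((ratV_bv (Sum.inl 0)).add' (ratV_bv (Sum.inl 1))))
  have h2 := SpFull.change h.le S₂ (nondeg_pair h22) full₂ (w := e₂) (Submodule.subset_span (by simp))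
    (by simp [bv]) hp2 hp0 cross₂ (by rwa [add_comm] at h1)
  rwa [hv, add_comm]

end big

end CfsgLib.Maximal.Sp4Even
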