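import Mathlib
import Cfsg.Agent.Lib.Maximal.Sp4Even.SubBasic

/-!
An irrational transvection yields an irrational transvection with rational centre.
-/

set_option autoImplicit false
set_option linter.unusedSectionVars false

namespace CfsgLib.Maximal.Sp4Even

open scoped Matrix

variable {F : Type*} [Field F] [CharP F 2]

local notation "sf" => Cfsg.sympForm 2 F
local notation "VV" => (Fin 2 ⊕ Fin 2 → F)
local notation "GG" => Matrix.GeneralLinearGroup (Fin 2 ⊕ Fin 2) F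
local notation "e₁" => (bv (Sum.inl 0) : Fin 2 ⊕ Fin 2 → F)
local notation "e₂" => (bv (Sum.inl 1) : Fin 2 ⊕ Fin 2 → F)
local notation "f₁" => (bv (Sum.inr 0) : Fin 2 ⊕ Fin 2 → F)
local notation "f₂" => (bv (Sum.inr 1) : Fin 2 ⊕ Fin 2 → F)

lemma rad_split' (α : F) {w b : VV} (h : sf w b = 0) : rad α w b = rad 0 w b * stv α b := by
  rw [← rad_zero_left α b, rad_mul 0 α h (sf_zero_left b), sf_zero_left, add_zero, add_zero, zero_add]

lemma rad_inv (α : F) {w b : VV} (h : sf w b = 0) : (rad α w b)⁻¹ = rad α w b :=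
  inv_eq_of_mul_eq_one_right (rad_mul_self α h)

lemma stv_inv_self (k : F) (v : VV) : (stv k v)⁻¹ = stv k v :=
  inv_eq_of_mul_eq_one_right (stv_mul_stv_self k v)

lemma basis_sf : sf e₁ f₁ = 1 ∧ sf f₁ e₁ = 1 ∧ sf e₂ f₂ = 1 ∧ sf f₂ e₂ = 1 ∧ sf e₁ e₂ = 0 ∧ sf e₂ e₁ = 0 ∧
    sf e₁ f₂ = 0 ∧ sf f₂ e₁ = 0 ∧ sf f₁ e₂ = 0 ∧ sf e₂ f₁ = 0 ∧ sf f₁ f₂ = 0 ∧ sf f₂ f₁ = 0 := by
  simp [sf_four, bv, Pi.single_apply]

variable {F₀ : Subfield F} {M : Subgroup (Matrix.GeneralLinearGroup (Fin 2 ⊕ Fin 2) F)} [Fintype F]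

/-- From an irrational transvection, a radical element with irrational parameter. -/
lemma RatOver.radical_of_stv (h : RatOver F₀ M) {v : VV} (hv : stv 1 v ∈ M) (hirr : ¬ RatV F₀ v) :
    ∃ x, x ∉ F₀ ∧ rad (x * x) (x • f₂) e₁ ∈ M := by
  obtain ⟨b11, b11', b22, b22', b12, b21, b1'2, b2'1, bf12, bf21, bff, bff'⟩ := basis_sf (F := F)
  obtain ⟨w, hw, hγ⟩ : ∃ w, RatV F₀ w ∧ sf v w ∉ F₀ := by
    by_contra hcon
    push Not at hcon
    obtain ⟨e1, e2, e3, e4⟩ := sf_bv v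
    refine hirr fun i => ?_
    rcases i with i | i <;> fin_cases i
    · exact e2 ▸ hcon _ (ratV_bv (Sum.inr 0))
    · exact e4 ▸ hcon _ (ratV_bv (Sum.inr 1))
    · exact e1 ▸ hcon _ (ratV_bv (Sum.inl 0))
    · exact e3 ▸ hcon _ (ratV_bv (Sum.inl 1))
  have hw0 : w ≠ 0 := fun h0 => hγ (by rw [h0, sf_zero_right]; exact F₀.zero_mem)
  obtain ⟨g, hg, hgw⟩ := h.exists_move hw hw0 (ratV_bv (Sum.inl 1)) (by simp [bv])
  set v' := (g : Matrix (Fin 2 ⊕ Fin 2) (Fin 2 ⊕ Fin 2) F) *ᵥ v with hv'def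
  have hv' : stv 1 v' ∈ M := stv_map h.le hg hv
  set γ := sf v' e₂ with hγdef
  have hγv : γ = sf v w := by rw [hγdef, hv'def, ← hgw]; exact (mem_spGL_iff g).1 (h.le hg) v w
  rw [← hγv] at hγ
  set b := sf v' e₁ with hb
  set u := γ • e₁ + b • e₂ with hu
  have hvu : sf v' u = 0 := by
    rw [hu, sf_add_right, sf_smul_right, sf_smul_right, ← hγdef, ← hb]
    linear_combination γ * b * (CharTwo.two_eq_zero : (2 : F) = 0)
  have hvu' : stv 1 (v' + u) ∈ M := by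
    have := stv_map h.le (h.rad_mem F₀.zero_mem (ratV_bv (Sum.inl 0)) (ratV_bv (Sum.inl 1))) hv'
    rwa [rad_mulVec _ b12, zero_mul, zero_smul, add_zero, ← hγdef, ← hb, add_assoc, ← hu] at this
  have y0 : rad 1 v' u ∈ M := rad_mem_of_stv hvu hv' hvu'
  have y1 := rad_map h.le (h.stv_mem F₀.one_mem (ratV_bv (Sum.inl 1))) y0
  have hue : sf u e₂ = 0 := by
    rw [hu, sf_add_left, sf_smul_left, sf_smul_left, b12, sf_alt, mul_zero, mul_zero, add_zero]
  rw [stv_mulVec, stv_mulVec, ← hγdef, hue, one_mul, one_mul, zero_smul, add_zero] at y1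
  have h1 : sf (v' + γ • e₂) u = 0 := by
    rw [sf_add_left, sf_smul_left, hvu, sf_symm, hue, mul_zero, add_zero]
  have y2 := mul_mem y1 y0
  rw [rad_mul _ _ h1 hvu, add_comm (v' + γ • e₂) v', ← add_assoc, add_self_vec, zero_add, CharTwo.add_self_eq_zero,
    zero_add, sf_add_right, sf_alt, zero_add, sf_smul_right, ← hγdef] at y2
  set a := γ * γ * (γ * γ) with ha
  set c := γ * γ * γ * b + γ * γ with hc
  set d := γ * γ * (b * b) with hd
  have h12c : sf (c • e₁) e₂ = 0 := by rw [sf_smul_left, b12, mul_zero]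
  have hu2 : sf (γ • e₂) u = 0 := by rw [sf_smul_left, sf_symm, hue, mul_zero]
  have eZ : rad (γ * γ) (γ • e₂) u = stv a e₁ * rad d (c • e₁) e₂ := by
    refine Units.ext (CfsgLib.Geometry.matrix_eq_of_mulVec fun x => ?_)
    rw [Units.val_mul, ← Matrix.mulVec_mulVec, rad_mulVec _ hu2, rad_mulVec _ h12c, stv_mulVec]
    funext i
    simp only [hu,
      sf_add_left, sf_add_right, sf_smul_left, sf_smul_right, b21, sf_alt, Pi.add_apply, Pi.smul_apply,
      smul_eq_mul, ha, hc, hd, mul_zero, add_zero]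
    linear_combination (γ * b * sf x e₂ * (bv (Sum.inl 1) : Fin 2 ⊕ Fin 2 → F) i) *
      (CharTwo.two_eq_zero : (2 : F) = 0)
  rw [eZ] at y2
  have ht := h.rad_mem F₀.zero_mem (ratV_bv (Sum.inl 1)) (ratV_bv (Sum.inr 0))
  have et1 : (rad 0 e₂ f₁ : Matrix _ _ F) *ᵥ e₁ = e₁ + e₂ := by
    simp [rad_mulVec _ bf21, b11, b12]
  have et2 : (rad 0 e₂ f₁ : Matrix _ _ F) *ᵥ e₂ = e₂ := by
    simp [rad_mulVec _ bf21, bf21, sf_alt]
  have y3 : rad 0 e₂ f₁ * (stv a e₁ * rad d (c • e₁) e₂) * (rad 0 e₂ f₁)⁻¹ ∈ M :=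
    mul_mem (mul_mem ht y2) (inv_mem ht)
  rw [← conj_mul, stv_conj (h.le ht), rad_conj (h.le ht), Matrix.mulVec_smul, et1, et2, smul_add,
    rad_add_smul _ _ h12c] at y3
  have y4 := mul_mem y3 (inv_mem y2)
  rw [mul_inv_rev, rad_inv _ h12c, stv_inv_self, mul_assoc, ← mul_assoc (rad d (c • e₁) e₂), rad_mul_self _ h12c,
    one_mul] at y4
  set s := γ * γ with hs
  have e5 : stv a (e₁ + e₂) * stv a e₁ = rad a (a • e₁) e₂ := by
    have := stv_add_mul (v := s • e₁) (u := s • e₂) (by rw [sf_smul_left, sf_smul_right, b12, mul_zero, mul_zero])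
    rw [← smul_add, stv_scale, stv_scale, one_mul, rad_smul_right _ _ (by rw [sf_smul_left, b12, mul_zero]),
      one_mul, smul_smul] at this
    exact this
  rw [e5] at y4
  obtain ⟨g', hg', hga, hgb⟩ := h.exists_swap (ratV_bv (Sum.inl 0)) (ratV_bv (Sum.inl 1)) (ratV_bv (Sum.inr 0))
    (ratV_bv (Sum.inr 1)) b11 b22 b12 b1'2 bf21
  have y5 := rad_map h.le hg' y4
  rw [Matrix.mulVec_smul, hga, hgb] at y5
  have y6 := rad_map h.le (h.stv_mem F₀.one_mem (ratV_bv (Sum.inr 1))) y5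
  rw [Matrix.mulVec_smul, stv_mulVec, stv_mulVec, b22, b1'2, one_mul, mul_zero, zero_smul, add_zero, one_smul]
    at y6
  have y7 := mul_mem y6 y5
  have ev : a • (e₂ + f₂) + a • e₂ = a • f₂ := by
    rw [smul_add, add_comm (a • e₂), add_assoc, add_self_vec, add_zero]
  rw [rad_mul _ _ (by rw [sf_smul_left, sf_add_left, b21, b2'1, add_zero, mul_zero])
    (by rw [sf_smul_left, b21, mul_zero]), ev,
    CharTwo.add_self_eq_zero, zero_add, sf_smul_left, sf_smul_right, sf_add_right, sf_alt, b22,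
    zero_add, mul_one] at y7
  exact ⟨a, fun hm => hγ (sq_mem_iff.1 (sq_mem_iff.1 hm)), y7⟩

/-- One step towards an irrational long root parameter. -/
lemma RatOver.pair_step (h : RatOver F₀ M) {x : F} (hK : rad (x * x) (x • f₂) e₁ ∈ M) :
    stv (x * x) e₁ * stv (x * x) f₁ ∈ M ∧ stv ((x * x + x) * (x * x + x)) e₁ ∈ M := by
  obtain ⟨b11, b11', b22, b22', b12, b21, b1'2, b2'1, bf12, bf21, bff, bff'⟩ := basis_sf (F := F)
  obtain ⟨g, hg, hga, hgb⟩ := h.exists_swap (ratV_bv (Sum.inl 0)) (ratV_bv (Sum.inr 1)) (ratV_bv (Sum.inr 0))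
    (ratV_bv (Sum.inl 1)) b11 b22' b1'2 b12 bff'
  have hK2 := rad_map h.le hg hK
  rw [Matrix.mulVec_smul, hga, hgb] at hK2
  have hR : rad 0 (x • e₁) f₂ = rad 0 (x • f₂) e₁ := by
    rw [rad_symm (by rw [sf_smul_left, b1'2, mul_zero]), rad_smul_right _ _ b2'1, zero_mul, zero_mul]
  have hx2 : sf (x • f₂) e₁ = 0 := by rw [sf_smul_left, b2'1, mul_zero]
  have d1 := mul_mem hK hK2
  rw [rad_split (x * x) hx2, rad_split' (x * x) (show sf (x • e₁) f₂ = 0 by rw [sf_smul_left, b1'2, mul_zero]), hR, mul_assoc,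
    ← mul_assoc (rad 0 (x • f₂) e₁), rad_mul_self _ hx2, one_mul] at d1
  obtain ⟨p, hp, hpf, hpfix⟩ := h.exists_step (ratV_bv (Sum.inr 1)) (ratV_bv (Sum.inl 1))
    (by rw [b22']; exact one_ne_zero)
  have hpe : (p : Matrix _ _ F) *ᵥ e₁ = e₁ := hpfix _ b1'2 b12
  have d2 : stv (x * x) e₁ * stv (x * x) e₂ ∈ M := by
    have := mul_mem (mul_mem hp d1) (inv_mem hp)
    rwa [← conj_mul, stv_conj (h.le hp), stv_conj (h.le hp), hpe, hpf] at this
  obtain ⟨q, hq, hqe, hqfix⟩ := h.exists_step (ratV_bv (Sum.inl 0)) (ratV_bv (Sum.inr 0))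
    (by rw [b11]; exact one_ne_zero)
  have d3 : stv (x * x) f₁ * stv (x * x) e₂ ∈ M := by
    have := mul_mem (mul_mem hq d2) (inv_mem hq)
    rwa [← conj_mul, stv_conj (h.le hq), stv_conj (h.le hq), hqe, hqfix _ b21 bf21] at this
  have G := mul_mem d2 (inv_mem d3)
  rw [mul_inv_rev, stv_inv_self, stv_inv_self, mul_assoc, ← mul_assoc (stv (x * x) e₂), stv_mul_stv_self,
    one_mul] at G
  refine ⟨G, ?_⟩
  have ht := h.rad_mem F₀.zero_mem (ratV_bv (Sum.inl 1)) (ratV_bv (Sum.inr 0))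
  have d4 : stv (x * x) (e₁ + e₂) * stv (x * x) e₂ ∈ M := by
    have := mul_mem (mul_mem ht d2) (inv_mem ht)
    rw [← conj_mul, stv_conj (h.le ht), stv_conj (h.le ht)] at this
    simpa [rad_mulVec _ bf21, b11, b12, bf21, sf_alt] using this
  have e4 : stv (x * x) (e₁ + e₂) * stv (x * x) e₂ = rad (x * x) ((x * x) • e₂) e₁ := by
    have := stv_add_mul (v := x • e₂) (u := x • e₁) (by rw [sf_smul_left, sf_smul_right, b21, mul_zero, mul_zero])
    rw [← smul_add, add_comm e₂ e₁, stv_scale, stv_scale, one_mul,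
      rad_smul_right _ _ (by rw [sf_smul_left, b21, mul_zero]), one_mul, smul_smul] at this
    exact this
  rw [e4] at d4
  have k3 := rad_map h.le hp hK
  rw [Matrix.mulVec_smul, hpe, hpf] at k3
  have r1 := mul_mem d4 k3
  rw [rad_mul _ _ (by rw [sf_smul_left, b21, mul_zero]) (by rw [sf_smul_left, b21, mul_zero]),
    CharTwo.add_self_eq_zero, zero_add, sf_smul_left, sf_smul_right, sf_alt, mul_zero, mul_zero, ← add_smul] at r1
  set y := x * x + x with hy
  obtain ⟨p', hp', hpe', hpfix'⟩ := h.exists_step (ratV_bv (Sum.inl 1)) (ratV_bv (Sum.inr 1))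
    (by rw [b22]; exact one_ne_zero)
  have r2 := rad_map h.le hp' r1
  rw [Matrix.mulVec_smul, hpe', hpfix' _ b12 b1'2] at r2
  have hye : sf (y • e₂) e₁ = 0 := by rw [sf_smul_left, b21, mul_zero]
  have t1 := stv_map h.le r1 (h.stv_mem F₀.one_mem (ratV_bv (Sum.inr 1)))
  rw [rad_mulVec _ hye, sf_smul_right, b2'1, b22', mul_one, zero_mul, zero_smul, zero_smul, add_zero, add_zero]
    at t1
  have r3 := rad_mem_of_stv (by rw [sf_smul_right, b2'1, mul_zero]) (h.stv_mem F₀.one_mem (ratV_bv (Sum.inr 1))) t1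
  rw [rad_smul_right _ _ b2'1, one_mul, rad_split _ (by rw [sf_smul_left, b2'1, mul_zero])] at r3
  exact (mul_mem_cancel_right r2).1 r3

lemma RatOver.exists_long (h : RatOver F₀ M) {x : F} (hx : x ∉ F₀) (hK : rad (x * x) (x • f₂) e₁ ∈ M) :
    ∃ μ, μ ∉ F₀ ∧ Long F₀ M μ := by
  obtain ⟨b11, b11', b22, b22', b12, b21, b1'2, b2'1, bf12, bf21, bff, bff'⟩ := basis_sf (F := F)
  have h2 : (2 : F) = 0 := CharTwo.two_eq_zero
  have fin : ∀ μ, μ ∉ F₀ → stv μ e₁ ∈ M → ∃ μ, μ ∉ F₀ ∧ Long F₀ M μ := fun μ hμ hm =>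
    ⟨μ, hμ, h.long_of (ratV_bv _) (by simp [bv]) hm⟩
  by_cases hy : x * x + x ∈ F₀
  swap
  · exact fin _ (fun hm => hy (sq_mem_iff.1 hm)) (h.pair_step hK).2
  by_cases hs : ∃ s ∈ F₀, s ≠ 0 ∧ s ≠ 1
  · obtain ⟨s, hs, hs0, hs1⟩ := hs
    obtain ⟨q, hq, hqe, hqfix⟩ := h.exists_step (ratV_bv (Sum.inl 0)) (ratV_bv (Sum.inr 0))
      (by rw [b11]; exact one_ne_zero)
    obtain ⟨q', hq', hqf, hqfix'⟩ := h.exists_step (ratV_bv (Sum.inr 0)) ((ratV_bv (Sum.inl 0)).smul hs)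
      (by rw [sf_smul_right, b11', mul_one]; exact hs0)
    have k := rad_map h.le hq' (rad_map h.le hq hK)
    rw [Matrix.mulVec_smul, Matrix.mulVec_smul, hqe, hqfix _ b2'1 bff', hqf,
      hqfix' _ bff' (by rw [sf_smul_right, b2'1, mul_zero]),
      rad_smul_right _ _ (by rw [sf_smul_left, b2'1, mul_zero]),
      smul_smul, show x * x * s * s = (s * x) * (s * x) by ring] at k
    refine fin _ (fun hm => hx ?_) (h.pair_step k).2
    have h1 := F₀.add_mem (sq_mem_iff.1 hm) (F₀.mul_mem (F₀.mul_mem hs hs) hy)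
    have h3 : s * x * (s * x) + s * x + s * s * (x * x + x) = (s * s + s) * x := by
      linear_combination s * s * x * x * h2
    rw [h3] at h1
    have hne : s * s + s ≠ 0 := by
      rw [show s * s + s = s * (s + 1) by ring]
      exact mul_ne_zero hs0 fun h0 => hs1 (CharTwo.add_eq_zero.1 h0)
    have := F₀.mul_mem (F₀.inv_mem (F₀.add_mem (F₀.mul_mem hs hs) hs)) h1
    rwa [inv_mul_cancel_left₀ hne] at this
  · push Not at hs
    have hy1 : x * x + x = 1 := by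
      refine hs _ hy fun h0 => ?_
      rcases mul_eq_zero.1 (show x * (x + 1) = 0 by linear_combination h0) with h1 | h1
      · exact hx (h1 ▸ F₀.zero_mem)
      · exact hx (CharTwo.add_eq_zero.1 h1 ▸ F₀.one_mem)
    have G := (h.pair_step hK).1
    obtain ⟨z, hz, hzz⟩ : ∃ z, z = x * x ∧ z * z + z + 1 = 0 :=
      ⟨x * x, rfl, by linear_combination (x * x - x + 1) * hy1 + (x * x - x + 1) * h2⟩
    rw [← hz] at G
    refine fin (z * z) (fun hm => hx (sq_mem_iff.1 (hz ▸ sq_mem_iff.1 hm))) ?_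
    have W := mul_mem (mul_mem (h.stv_mem F₀.one_mem (ratV_bv (Sum.inr 0)))
      (h.stv_mem F₀.one_mem (ratV_bv (Sum.inl 0)))) (mul_mem G G)
    convert W using 1
    refine Units.ext (CfsgLib.Geometry.matrix_eq_of_mulVec fun u => ?_)
    funext i
    set A := sf u e₁ with hA
    set B := sf u f₁ with hB
    set E := (bv (Sum.inl 0) : Fin 2 ⊕ Fin 2 → F) i with hE
    set P := (bv (Sum.inr 0) : Fin 2 ⊕ Fin 2 → F) i with hP
    have step2 : (((stv z e₁ * stv z f₁ * (stv z e₁ * stv z f₁) : GG) : Matrix _ _ F) *ᵥ u) =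
        u + (A + B) • e₁ + (z * z * A + B) • f₁ := by
      funext j
      simp only [Units.val_mul, ← Matrix.mulVec_mulVec, stv_mulVec, sf_add_left, sf_smul_left, b11, b11', sf_alt,
        ← hA, ← hB, Pi.add_apply, Pi.smul_apply, smul_eq_mul, mul_one, mul_zero, add_zero]
      linear_combination (bv (Sum.inl 0) : Fin 2 ⊕ Fin 2 → F) j *
          (((z - 1) * A + (z * z - z + 3) * B) * hzz + (z * A - (z + 2) * B) * h2) +
        (bv (Sum.inr 0) : Fin 2 ⊕ Fin 2 → F) j * ((z - 1) * B * hzz + z * B * h2)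
    rw [Units.val_mul, ← Matrix.mulVec_mulVec, step2, stv_mulVec]
    simp only [Units.val_mul, ← Matrix.mulVec_mulVec, stv_mulVec, sf_add_left, sf_smul_left, b11, b11', sf_alt,
      ← hA, ← hB, Pi.add_apply, Pi.smul_apply, smul_eq_mul, mul_one, mul_zero, one_mul, add_zero, ← hE, ← hP]
    first
      | linear_combination -((A + B) * E + (z * z * A + A + 2 * B) * P) * h2
      | linear_combination ((A + B) * E + (z * z * A + A + 2 * B) * P) * h2

lemma RatOver.eq_of_stv (h : RatOver F₀ M) {r : ℕ} (hr : r.Prime) (hcard : Fintype.card F = Nat.card F₀ ^ r)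
    {v : VV} (hv : stv 1 v ∈ M) (hirr : ¬ RatV F₀ v) : M = Cfsg.spGL 2 F := by
  obtain ⟨γ, hγ, hK⟩ := h.radical_of_stv hv hirr
  obtain ⟨μ, hμ, hl⟩ := h.exists_long hγ hK
  exact h.eq_of_long hr hcard hl hμ

end CfsgLib.Maximal.Sp4Even
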