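import Mathlib
import Cfsg.Agent.Lib.Maximal.Sp4Even.SubTilt
import Cfsg.Agent.Lib.Maximal.SpSubMain

/-!
Subfield groups are maximal in the four-dimensional symplectic group in characteristic two.
-/

set_option autoImplicit false
set_option linter.unusedSectionVars false

namespace CfsgLib.Maximal.Sp4Even

open scoped Matrix

variable {F : Type*} [Field F] [CharP F 2] [Fintype F] {F₀ : Subfield F}

local notation "sf" => Cfsg.sympForm 2 F
local notation "VV" => (Fin 2 ⊕ Fin 2 → F)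
local notation "MM" => Matrix (Fin 2 ⊕ Fin 2) (Fin 2 ⊕ Fin 2) F
local notation "GG" => Matrix.GeneralLinearGroup (Fin 2 ⊕ Fin 2) F

lemma ratM_of_upToScalar {g : GG} (hg : g ∈ Cfsg.spGL 2 F) (h : RatUpToScalar F₀ g) : RatM F₀ (g : MM) := by
  obtain ⟨c, hc, hr⟩ := h
  have h1 := rat_sf (hr.mulVec (ratV_bv (Sum.inl 0))) (hr.mulVec (ratV_bv (Sum.inr 0)))
  rw [Matrix.smul_mulVec, Matrix.smul_mulVec, sf_smul_left, sf_smul_right, (mem_spGL_iff g).1 hg,
    basis_sf.1, mul_one] at h1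
  intro i j
  have := F₀.mul_mem (F₀.inv_mem (sq_mem_iff.1 h1)) (hr i j)
  rwa [Matrix.smul_apply, smul_eq_mul, inv_mul_cancel_left₀ hc] at this

lemma ratOver_dichotomy {r : ℕ} (hr : r.Prime) (hcard : Fintype.card F = Nat.card F₀ ^ r)
    {M : Subgroup GG} (h : RatOver F₀ M) : (∀ g ∈ M, RatM F₀ (g : MM)) ∨ M = Cfsg.spGL 2 F := by
  by_cases hall : ∀ v : VV, stv 1 v ∈ M → RatV F₀ v
  · refine Or.inl fun g hg i j => ?_
    have := hall _ (stv_map h.le hg (h.stv_mem F₀.one_mem (ratV_bv j))) i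
    rwa [bv, Matrix.mulVec_single_one] at this
  · push Not at hall
    obtain ⟨v, hv, hirr⟩ := hall
    exact Or.inr (h.eq_of_stv hr hcard hv hirr)

lemma subfield_maximal_aux {r : ℕ} (hr : r.Prime) (hcard : Fintype.card F = Nat.card F₀ ^ r) (P : GG)
    {η : F} (hη : η ≠ 0) (hP : ∀ u v, sf (Units.val P *ᵥ u) (Units.val P *ᵥ v) = η * sf u v) :
    Cfsg.Geo.IsMaximalIn (Cfsg.spGL 2 F) (Cfsg.Geo.subfieldSubgroup F₀ P ⊓ Cfsg.spGL 2 F) := by
  classical
  have hPi : ∀ u v, sf (Units.val P⁻¹ *ᵥ u) (Units.val P⁻¹ *ᵥ v) = η⁻¹ * sf u v := fun u v => by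
    have := hP (Units.val P⁻¹ *ᵥ u) (Units.val P⁻¹ *ᵥ v)
    simp only [Matrix.mulVec_mulVec, ← Units.val_mul, mul_inv_cancel, Units.val_one, Matrix.one_mulVec] at this
    rw [this, inv_mul_cancel_left₀ hη]
  have hconj : ∀ {g}, g ∈ Cfsg.spGL 2 F → P * g * P⁻¹ ∈ Cfsg.spGL 2 F := fun {g} hg => by
    rw [mem_spGL_iff] at hg ⊢
    intro u v
    simp only [Units.val_mul, ← Matrix.mulVec_mulVec, hP, hg, hPi, mul_inv_cancel_left₀ hη]
  have hconj' : ∀ {g}, g ∈ Cfsg.spGL 2 F → P⁻¹ * g * P ∈ Cfsg.spGL 2 F := fun {g} hg => by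
    rw [mem_spGL_iff] at hg ⊢
    intro u v
    simp only [Units.val_mul, ← Matrix.mulVec_mulVec, hP, hg, hPi, inv_mul_cancel_left₀ hη]
  refine ⟨lt_of_le_of_ne inf_le_right fun heq => ?_, fun M hSM hMK => ?_⟩
  · obtain ⟨μ, hμ⟩ := exists_notMem_subfield hr hcard
    have h1 := (mem_subfieldSubgroup_iff P _).1
      ((SetLike.ext_iff.1 heq _).2 (hconj (stv_mem_spGL μ (bv (Sum.inl 0))))).1
    rw [show P⁻¹ * (P * stv μ (bv (Sum.inl 0)) * P⁻¹) * P = stv μ (bv (Sum.inl 0)) by group] at h1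
    have h2 := (ratM_of_upToScalar (stv_mem_spGL _ _) h1).mulVec (ratV_bv (Sum.inr 0)) (Sum.inl 0)
    rw [stv_mulVec, basis_sf.2.1, mul_one] at h2
    simp [bv] at h2
    exact hμ h2
  · let H : Subgroup GG := M.map (MulAut.conj P⁻¹).toMonoidHom
    have memH : ∀ g, g ∈ H ↔ P * g * P⁻¹ ∈ M := fun g => by
      constructor
      · rintro ⟨x, hx, rfl⟩
        simpa [MulAut.conj_apply, mul_assoc] using hx
      · intro hg; exact ⟨_, hg, by simp [MulAut.conj_apply, mul_assoc]⟩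
    have hle : H ≤ Cfsg.spGL 2 F := fun g hg => by
      have := hconj' (hMK ((memH g).1 hg))
      rwa [show P⁻¹ * (P * g * P⁻¹) * P = g by group] at this
    have hmem : ∀ g, g ∈ Cfsg.spGL 2 F → RatM F₀ (g : MM) → g ∈ H := fun g hg hrat =>
      (memH g).2 (hSM ⟨(mem_subfieldSubgroup_iff P _).2 (by
        rw [show P⁻¹ * (P * g * P⁻¹) * P = g by group]
        exact ⟨1, one_ne_zero, by rwa [one_smul]⟩), hconj hg⟩)
    rcases ratOver_dichotomy hr hcard ⟨hle, hmem⟩ with hall | htop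
    · refine Or.inl (le_antisymm (fun g hg => ⟨(mem_subfieldSubgroup_iff P g).2 ?_, hMK hg⟩) hSM)
      refine ⟨1, one_ne_zero, ?_⟩
      rw [one_smul]
      refine hall _ ?_
      rw [memH, show P * (P⁻¹ * g * P) * P⁻¹ = g by group]; exact hg
    · refine Or.inr (le_antisymm hMK fun g hg => ?_)
      have := (memH (P⁻¹ * g * P)).1 (htop ▸ hconj' hg)
      rwa [show P * (P⁻¹ * g * P) * P⁻¹ = g by group] at this

theorem subfield_maximal {r : ℕ} (hr : r.Prime) (hcard : Fintype.card F = Nat.card F₀ ^ r)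
    (P : Matrix.GeneralLinearGroup (Fin 2 ⊕ Fin 2) F) {ζ : F} (hζ : ζ ≠ 0)
    (hP : Cfsg.Geo.IsFormRationalStructure (Cfsg.sympForm 2 F) F₀ ζ P) :
    Cfsg.Geo.IsMaximalIn (Cfsg.spGL 2 F) (Cfsg.Geo.subfieldSubgroup F₀ P ⊓ Cfsg.spGL 2 F) := by
  classical
  let A : Matrix (Fin 2 ⊕ Fin 2) (Fin 2 ⊕ Fin 2) F := ζ • ((Units.val P)ᵀ * Matrix.J (Fin 2) F * Units.val P)
  have hA : ∀ u v, u ⬝ᵥ (A *ᵥ v) = ζ * sf (Units.val P *ᵥ u) (Units.val P *ᵥ v) := fun u v => by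
    simp only [A, Matrix.smul_mulVec, dotProduct_smul, smul_eq_mul, Cfsg.sympForm, ← Matrix.mulVec_mulVec,
      Matrix.dotProduct_mulVec u (Units.val P)ᵀ, Matrix.vecMul_transpose]
  have hrat : RatM F₀ A := fun i j => by
    have := hP (Pi.single i 1) (Pi.single j 1) (ratV_single i F₀.one_mem) (ratV_single j F₀.one_mem)
    rw [← hA] at this
    simpa using this
  obtain ⟨G, hG⟩ := hrat.lift
  have hup : ∀ u v : Fin 2 ⊕ Fin 2 → F₀, ((u ⬝ᵥ (G *ᵥ v) : F₀) : F) = upV u ⬝ᵥ (A *ᵥ upV v) := fun u v => by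
    rw [← hG]
    simp [dotProduct, Matrix.mulVec, upV]
  have halt : ∀ u, u ⬝ᵥ (G *ᵥ u) = 0 := fun u => Subtype.ext (by
    rw [hup, hA, sf_alt, mul_zero]; rfl)
  have hdet : G.det ≠ 0 := fun h0 => by
    have h2 := RingHom.map_det F₀.subtype G
    rw [h0, map_zero, show F₀.subtype.mapMatrix G = G.map F₀.subtype from rfl, hG] at h2
    obtain ⟨v, hv0, hv⟩ := Matrix.exists_mulVec_eq_zero_iff.2 h2.symm
    refine hv0 (mulVec_inj P ?_)
    show Units.val P *ᵥ v = Units.val P *ᵥ 0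
    rw [Matrix.mulVec_zero]
    refine (CfsgLib.Geometry.sympBilin_nondegenerate 2 F).1 _ fun y => ?_
    obtain ⟨y, rfl⟩ := mulVec_surj P y
    have h3 := hA y v
    rw [hv, dotProduct_zero] at h3
    rw [CfsgLib.Geometry.sympBilin_apply, sf_skew, (mul_eq_zero.1 h3.symm).resolve_left hζ, neg_zero]
  obtain ⟨Q, hQ⟩ := exists_rat_sympBasis G halt hdet
  rw [← subfieldSubgroup_mul_rat P Q]
  refine subfield_maximal_aux hr hcard _ (inv_ne_zero hζ) fun u v => ?_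
  have key : ∀ u v, u ⬝ᵥ (((Units.val Q)ᵀ * G * Units.val Q) *ᵥ v) = u ⬝ᵥ (Matrix.J (Fin 2) F₀ *ᵥ v) := fun u v => by
    rw [← Matrix.mulVec_mulVec, ← Matrix.mulVec_mulVec, Matrix.dotProduct_mulVec u (Units.val Q)ᵀ,
      Matrix.vecMul_transpose]
    exact hQ u v
  have hQM : (Units.val Q)ᵀ * G * Units.val Q = Matrix.J (Fin 2) F₀ := Matrix.ext fun i j => by
    simpa using key (Pi.single i 1) (Pi.single j 1)
  have h5 := congrArg (fun M : Matrix (Fin 2 ⊕ Fin 2) (Fin 2 ⊕ Fin 2) F₀ => M.map F₀.subtype) hQM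
  simp only [Matrix.map_mul, Matrix.transpose_map, hG] at h5
  have hJ : (Matrix.J (Fin 2) F₀).map F₀.subtype = Matrix.J (Fin 2) F := by
    simp [Matrix.J, Matrix.fromBlocks_map]
    exact Matrix.ext fun i j => by rcases eq_or_ne i j with rfl | hij <;> simp [*]
  rw [hJ] at h5
  rw [Units.val_mul, show Units.val (Matrix.GeneralLinearGroup.map F₀.subtype Q) = (Units.val Q).map F₀.subtype
    from rfl, ← Matrix.mulVec_mulVec, ← Matrix.mulVec_mulVec, eq_inv_mul_iff_mul_eq₀ hζ, ← hA,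
    ← Matrix.vecMul_transpose, ← Matrix.dotProduct_mulVec, Matrix.mulVec_mulVec, Matrix.mulVec_mulVec, h5]
  rfl

end CfsgLib.Maximal.Sp4Even
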